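import Mathlib
import Groth.Agent.ComodLib.LinRed
import Groth.Agent.GLinFinLib.Linear
import Groth.Agent.HopfFFLib.Stab.Basic
import Groth.Prelude.Def_GLin2
import Groth.Prelude.Def_W4c6stackyreslrsPsRefl

/-! # Chevalley–Shephard–Todd for linearly reductive group schemes: Chevalley's lemma -/

set_option autoImplicit false
set_option maxHeartbeats 1000000
set_option synthInstance.maxHeartbeats 400000

noncomputable section

open TensorProduct HopfRep MvPolynomial WithConv
open ComodLib hiding coeff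

namespace CSTLib

universe u v w

section general

variable {k : Type u} [Field k] {A : Type v} [CommRing A] [HopfAlgebra k A]

/-- A normalised left invariant functional is invariant under the antipode. -/
theorem invariant_comp_antipode {β : A →ₗ[k] k} (hβ : IsInvariant β) (h1 : β 1 = 1) :
    β ∘ₗ HopfAlgebra.antipode k = β := by
  refine LinearMap.ext fun x => ?_
  have e := apply_slice β (β ∘ₗ HopfAlgebra.antipode k) (CoalgebraStruct.comul (R := k) x)
  rw [slice_comul_antipode hβ, hβ x] at e
  simpa [h1] using e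

theorem tensor_commute {R S : Type*} [CommRing R] [CommRing S] [Algebra k R] [Algebra k S]
    (a b : R ⊗[k] S) : Commute a b := mul_comm a b

theorem slice_sub {V : Type*} [AddCommGroup V] [Module k V] (c : A →ₗ[k] k) (x y : V ⊗[k] A) :
    slice c (x - y) = slice c x - slice c y := map_sub _ _ _

theorem slice_mul_tmul {R : Type*} [CommRing R] [Algebra k R] (c : A →ₗ[k] k) (z : R ⊗[k] A)
    (g : R) : slice c (z * g ⊗ₜ[k] (1 : A)) = slice c z * g := by
  induction z with
  | zero => simp
  | tmul a b => simp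
  | add z w hz hw => simp only [add_mul, map_add, hz, hw]

theorem reynolds_mul_fixed {R : Type w} [CommRing R] [Algebra k R] [Comod k A R]
    [GLin.IsCoactAlg k A R] (α : A →ₗ[k] k) (f : R) {g : R} (hg : g ∈ GLin.invariants k A R) :
    ComodLib.reynolds R α (f * g) = ComodLib.reynolds R α f * g := by
  refine (ComodLib.reynolds_natural α (φ := LinearMap.mulRight k g) (LinearMap.ext fun x => ?_) f).symm
  show Comod.coact (k := k) (A := A) (x * g) =
    (LinearMap.mulRight k g).rTensor A (Comod.coact (k := k) (A := A) x)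
  rw [GLin.IsCoactAlg.coact_mul, show Comod.coact (k := k) (A := A) g = g ⊗ₜ[k] (1 : A) from hg]
  generalize Comod.coact (k := k) (A := A) x = z
  induction z with
  | zero => simp
  | add z z' hz hz' => rw [add_mul, map_add, hz, hz']
  | tmul a c => simp

/-- The Reynolds operator of a two-sided invariant is equivariant to the trivial comodule. -/
theorem rTensor_reynolds {V : Type w} [AddCommGroup V] [Module k V] [Comod k A V]
    {β : A →ₗ[k] k} (hβ : IsInvariant β) (h1 : β 1 = 1) (v : V) :
    LinearMap.rTensor A (ComodLib.reynolds V β) (Comod.coact (k := k) (A := A) v) =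
      ComodLib.reynolds V β v ⊗ₜ[k] (1 : A) := by
  simp only [ComodLib.reynolds, invariant_comp_antipode hβ h1, LinearMap.comp_apply]
  rw [LinearMap.rTensor_comp_apply,
    ← LinearEquiv.symm_apply_apply (TensorProduct.assoc k V A A)
      ((Comod.coact (k := k) (A := A)).rTensor A _), coassoc_apply]
  generalize Comod.coact (k := k) (A := A) v = z
  induction z with
  | zero => simp [TensorProduct.zero_tmul]
  | add a b ha hb => simp only [map_add, add_tmul, ha, hb]
  | tmul x b =>
    have key : ∀ t : A ⊗[k] A, LinearMap.rTensor A (slice (V := V) β)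
        ((TensorProduct.assoc k V A A).symm (x ⊗ₜ[k] t)) = x ⊗ₜ[k] sliceL β t := by
      intro t
      induction t with
      | zero => simp
      | add a b ha hb => simp only [tmul_add, map_add, ha, hb]
      | tmul a b => simp [TensorProduct.smul_tmul]
    rw [LinearMap.lTensor_tmul, key, hβ]
    simp [TensorProduct.smul_tmul]

end general

variable {k : Type u} [Field k] {A : Type u} [CommRing A] [HopfAlgebra k A] {ι : Type u}

local notation "P" => MvPolynomial ι k

variable (k ι) in
/-- Homogeneous components, with plain types. -/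
abbrev hc (e : ℕ) : P →ₗ[k] P := homogeneousComponent e

theorem hc_mul_right {d e : ℕ} (p : P) {a : P} (ha : a.IsHomogeneous e) :
    hc k ι d (p * a) = if e ≤ d then hc k ι (d - e) p * a else 0 := by
  have h1 : ∀ j, hc k ι d (hc k ι j p * a) =
      if j + e = d then hc k ι j p * a else 0 := by
    intro j
    show homogeneousComponent d (homogeneousComponent j p * a) = _
    rw [homogeneousComponent_of_mem ((mem_homogeneousSubmodule _ _).2
      ((homogeneousComponent_isHomogeneous j p).mul ha))]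
    by_cases h : d = j + e
    · rw [if_pos h, if_pos h.symm]
    · rw [if_neg h, if_neg fun h' => h h'.symm]
  conv_lhs => rw [← sum_homogeneousComponent p]
  rw [Finset.sum_mul, map_sum, Finset.sum_congr rfl fun j _ => h1 j]
  split_ifs with hed
  · rw [Finset.sum_eq_single (d - e) (fun j _ hj => if_neg (by omega))]
    · rw [if_pos (by omega)]
    · intro h
      rw [if_pos (by omega)]
      show homogeneousComponent _ p * a = 0
      rw [homogeneousComponent_eq_zero _ _ (by simp at h; omega), zero_mul]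
  · exact Finset.sum_eq_zero fun j _ => if_neg (by omega)

theorem hc_zero (f : P) : hc k ι 0 f = C (coeff 0 f) := homogeneousComponent_zero f

theorem hc_of_mem {d e : ℕ} {f : P} (hf : f.IsHomogeneous d) :
    hc k ι e f = if e = d then f else 0 :=
  homogeneousComponent_of_mem ((mem_homogeneousSubmodule _ _).2 hf)

section coact

variable [Fintype ι] [Comod k A (MvPolynomial ι k)] [GLin.IsCoactAlg k A (MvPolynomial ι k)]

/-- A linear coaction commutes with homogeneous components. -/
theorem coact_hc (hlin : GLin.IsLinear k A ι) (e : ℕ) (f : P) :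
    Comod.coact (k := k) (A := A) (hc k ι e f) =
      (hc k ι e).rTensor A (Comod.coact (k := k) (A := A) f) := by
  let ρ := GLin.coactAlgHom k A P
  let ΦH : P ⊗[k] A →ₐ[k] Polynomial (P ⊗[k] A) := Algebra.TensorProduct.lift
    ((Polynomial.mapAlgHom (Algebra.TensorProduct.includeLeft : P →ₐ[k] P ⊗[k] A)).comp GLinFinLib.degAlg)
    ((Polynomial.CAlgHom : P ⊗[k] A →ₐ[k] Polynomial (P ⊗[k] A)).comp Algebra.TensorProduct.includeRight)
    (fun x y => by
      show _ * _ = _ * _
      exact mul_comm (G := Polynomial (MvPolynomial ι k ⊗[k] A)) _ _)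
  have hΦ : ∀ (x : P) (h : A), ΦH (x ⊗ₜ h) =
      Polynomial.map (Algebra.TensorProduct.includeLeft : P →ₐ[k] P ⊗[k] A).toRingHom (GLinFinLib.degAlg x) *
        Polynomial.C ((1 : P) ⊗ₜ[k] h) := fun x h => Algebra.TensorProduct.lift_tmul _ _ _ _ _
  have hz : ∀ z, (ΦH z).coeff e = (hc k ι e).rTensor A z := fun z => by
    induction z with
    | zero => simp
    | add z z' hz hz' => rw [map_add, Polynomial.coeff_add, hz, hz', map_add]
    | tmul x h =>
      rw [hΦ, Polynomial.coeff_mul_C, Polynomial.coeff_map, GLinFinLib.coeff_degAlg, LinearMap.rTensor_tmul]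
      simp
  have heq : (Polynomial.mapAlgHom ρ).comp GLinFinLib.degAlg = ΦH.comp ρ := by
    refine MvPolynomial.algHom_ext fun i => ?_
    obtain ⟨m, hm⟩ := hlin i
    rw [AlgHom.comp_apply, AlgHom.comp_apply, show ρ (X i) = _ from hm, map_sum,
      show GLinFinLib.degAlg (X i : P) = Polynomial.C (X i : P) * Polynomial.X from aeval_X _ _]
    show Polynomial.map ρ.toRingHom (Polynomial.C (X i : P) * Polynomial.X) = _
    rw [Polynomial.map_mul, Polynomial.map_C, Polynomial.map_X, show ρ.toRingHom (X i) = _ from hm, map_sum,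
      Finset.sum_mul]
    refine Finset.sum_congr rfl fun j _ => ?_
    rw [hΦ, show GLinFinLib.degAlg (X j : P) = Polynomial.C (X j : P) * Polynomial.X from aeval_X _ _,
      Polynomial.map_mul, Polynomial.map_C, Polynomial.map_X]
    conv_rhs => rw [mul_assoc, Polynomial.X_mul_C, ← mul_assoc, ← map_mul]
    simp
  have h := congrArg (fun p => Polynomial.coeff p e) (AlgHom.congr_fun heq f)
  simp only [AlgHom.comp_apply] at h
  rw [hz] at h
  have h2 : (Polynomial.mapAlgHom ρ (GLinFinLib.degAlg f)).coeff e = ρ (hc k ι e f) := by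
    show _ = ρ (homogeneousComponent e f)
    rw [← GLinFinLib.coeff_degAlg]
    exact Polynomial.coeff_map _ _
  exact h2.symm.trans h

theorem hc_reynolds (hlin : GLin.IsLinear k A ι) (α : A →ₗ[k] k) (e : ℕ) (f : P) :
    hc k ι e (ComodLib.reynolds P α f) = ComodLib.reynolds P α (hc k ι e f) :=
  ComodLib.reynolds_natural α (LinearMap.ext fun x => coact_hc hlin e x) f

theorem hc_mem_invariants (hlin : GLin.IsLinear k A ι) (e : ℕ) {f : P}
    (hf : f ∈ GLin.invariants k A P) : hc k ι e f ∈ GLin.invariants k A P :=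
  GLinFinLib.homogeneousComponent_mem_invariants hlin e hf

variable (k A ι) in
/-- Invariant homogeneous polynomials of positive degree. -/
def posInv : Set P := {g | g ∈ GLin.invariants k A P ∧ ∃ d, 0 < d ∧ g.IsHomogeneous d}

variable (k A ι) in
/-- The Hilbert ideal. -/
def hilbert : Ideal P := Ideal.span (posInv k A ι)

theorem hc_mem_hilbert {f : P} (hf : f ∈ hilbert k A ι) (e : ℕ) : hc k ι e f ∈ hilbert k A ι := by
  induction hf using Submodule.span_induction generalizing e with
  | mem g hg =>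
    obtain ⟨hgi, d, hd, hgd⟩ := hg
    rw [hc_of_mem hgd]
    split_ifs
    · exact Ideal.subset_span ⟨hgi, d, hd, hgd⟩
    · exact zero_mem _
  | zero => simp
  | add a b _ _ ha hb => rw [map_add]; exact add_mem (ha e) (hb e)
  | smul c a _ ha =>
    rw [smul_eq_mul]
    rw [show c * a = ∑ j ∈ Finset.range (c.totalDegree + 1), homogeneousComponent j c * a by
      rw [← Finset.sum_mul, sum_homogeneousComponent], map_sum]
    refine sum_mem fun j _ => ?_
    rw [mul_comm, hc_mul_right a (homogeneousComponent_isHomogeneous j c)]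
    split_ifs
    · exact Ideal.mul_mem_right _ _ (ha _)
    · exact zero_mem _

theorem sub_const_mem_hilbert (hlin : GLin.IsLinear k A ι) {f : P}
    (hf : f ∈ GLin.invariants k A P) : f - C (coeff 0 f) ∈ hilbert k A ι := by
  rw [← hc_zero]
  conv => arg 2; arg 1; rw [← sum_homogeneousComponent f]
  rw [Finset.range_eq_Ico, Finset.sum_eq_sum_Ico_succ_bot (Nat.succ_pos _), add_sub_cancel_left]
  refine sum_mem fun j hj => Ideal.subset_span ⟨hc_mem_invariants hlin j hf, j, ?_,
    homogeneousComponent_isHomogeneous j f⟩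
  simp only [Finset.mem_Ico] at hj
  omega

theorem coeff_zero_hilbert {f : P} (hf : f ∈ hilbert k A ι) : coeff 0 f = 0 := by
  have : hilbert k A ι ≤ RingHom.ker (constantCoeff : P →+* k) := by
    refine Ideal.span_le.2 ?_
    rintro g ⟨-, d, hd, hgd⟩
    exact hgd.coeff_eq_zero (by simpa using hd.ne)
  exact this hf

/-- Points of the group whose translates fix `f` modulo the Hilbert ideal form a subgroup; its
ideal. -/
theorem exists_stabilizer (f : P) :
    ∃ J : Ideal A, J.IsHopfIdeal k ∧
      (∀ I : Ideal A, LinearMap.rTensor (A ⧸ I) (Ideal.Quotient.mkₐ k (hilbert k A ι)).toLinearMap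
          (LinearMap.lTensor P (Ideal.Quotient.mkₐ k I).toLinearMap (Comod.coact (k := k) (A := A) f)) =
          Ideal.Quotient.mk (hilbert k A ι) f ⊗ₜ[k] (1 : A ⧸ I) → J ≤ I) ∧
      (J = ⊥ → LinearMap.rTensor A (Ideal.Quotient.mkₐ k (hilbert k A ι)).toLinearMap
          (Comod.coact (k := k) (A := A) f) = Ideal.Quotient.mk (hilbert k A ι) f ⊗ₜ[k] (1 : A)) := by
  let I₀ := hilbert k A ι
  let π : P →ₐ[k] P ⧸ I₀ := Ideal.Quotient.mkₐ k I₀
  let z : (P ⧸ I₀) ⊗[k] A := LinearMap.rTensor A π.toLinearMap (Comod.coact (k := k) (A := A) f) -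
    π f ⊗ₜ[k] (1 : A)
  let J : Ideal A := Ideal.span (Set.range fun φ : (P ⧸ I₀) →ₗ[k] k => sliceL φ z)
  -- the action of a point on `(P / I₀) ⊗ R`
  let T : ∀ {R : Type u} [CommRing R] [Algebra k R], WithConv (A →ₐ[k] R) → (P →ₐ[k] (P ⧸ I₀) ⊗[k] R) :=
    fun g => (Algebra.TensorProduct.map π g.ofConv).comp (GLin.coactAlgHom k A P)
  have hT : ∀ {R : Type u} [CommRing R] [Algebra k R] (g : WithConv (A →ₐ[k] R)),
      (∀ a ∈ J, g.ofConv a = 0) ↔ T g f = π f ⊗ₜ[k] (1 : R) := by
    intro R _ _ g
    have key : LinearMap.lTensor (P ⧸ I₀) g.ofConv.toLinearMap z = T g f - π f ⊗ₜ[k] (1 : R) := by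
      simp only [z, map_sub, LinearMap.lTensor_tmul, AlgHom.toLinearMap_apply, map_one]
      congr 1
      show _ = Algebra.TensorProduct.map π g.ofConv (Comod.coact (k := k) (A := A) f)
      generalize Comod.coact (k := k) (A := A) f = y
      induction y with
      | zero => simp
      | add a b ha hb => simp only [map_add, ha, hb]
      | tmul a b => simp
    constructor
    · intro h
      rw [← sub_eq_zero, ← key]
      refine ext_sliceL fun φ => ?_
      rw [sliceL_lTensor, map_zero]
      exact h _ (Ideal.subset_span ⟨φ, rfl⟩)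
    · intro h a ha
      have : J ≤ RingHom.ker g.ofConv := by
        refine Ideal.span_le.2 ?_
        rintro _ ⟨φ, rfl⟩
        show g.ofConv.toLinearMap (sliceL φ z) = 0
        rw [← sliceL_lTensor, key, h, sub_self, map_zero]
      exact this ha
  have hTI : ∀ {R : Type u} [CommRing R] [Algebra k R] (g : WithConv (A →ₐ[k] R)),
      ∀ x ∈ I₀, T g x = 0 := by
    intro R _ _ g
    have : I₀ ≤ RingHom.ker (T g) := by
      refine Ideal.span_le.2 fun x hx => ?_
      show Algebra.TensorProduct.map π g.ofConv (Comod.coact (k := k) (A := A) x) = 0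
      rw [show Comod.coact (k := k) (A := A) x = x ⊗ₜ[k] (1 : A) from hx.1,
        Algebra.TensorProduct.map_tmul,
        show π x = 0 from Ideal.Quotient.eq_zero_iff_mem.2 (Ideal.subset_span hx), zero_tmul]
    exact fun x hx => this hx
  let Ψ : ∀ {R : Type u} [CommRing R] [Algebra k R], WithConv (A →ₐ[k] R) →
      ((P ⧸ I₀) ⊗[k] R →ₐ[k] (P ⧸ I₀) ⊗[k] R) := fun g =>
    Algebra.TensorProduct.lift (Ideal.Quotient.liftₐ I₀ (T g) (hTI g))
      Algebra.TensorProduct.includeRight fun _ _ => tensor_commute _ _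
  have hΨ : ∀ {R : Type u} [CommRing R] [Algebra k R] (g : WithConv (A →ₐ[k] R)) (x : P) (r : R),
      Ψ g (π x ⊗ₜ[k] r) = T g x * (1 ⊗ₜ[k] r) := fun g x r => by
    simp [Ψ, π]
  have hmul : ∀ {R : Type u} [CommRing R] [Algebra k R] (g h : WithConv (A →ₐ[k] R)) (x : P),
      Ψ g (T h x) = T (g * h) x := by
    intro R _ _ g h x
    let Φ : (P ⊗[k] A) ⊗[k] A →ₐ[k] (P ⧸ I₀) ⊗[k] R := Algebra.TensorProduct.lift
      (Algebra.TensorProduct.map π g.ofConv)
      ((Algebra.TensorProduct.includeRight : R →ₐ[k] (P ⧸ I₀) ⊗[k] R).comp h.ofConv)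
      fun _ _ => tensor_commute _ _
    have e1 : ∀ y : P ⊗[k] A, Ψ g (Algebra.TensorProduct.map π h.ofConv y) =
        Φ (LinearMap.rTensor A (Comod.coact (k := k) (A := A)) y) := by
      intro y
      induction y with
      | zero => simp
      | add a b ha hb => simp only [map_add, ha, hb]
      | tmul a b =>
        rw [Algebra.TensorProduct.map_tmul, hΨ, LinearMap.rTensor_tmul]
        simp [Φ, T]
    show Ψ g (Algebra.TensorProduct.map π h.ofConv (Comod.coact (k := k) (A := A) x)) =
      Algebra.TensorProduct.map π (g * h).ofConv (Comod.coact (k := k) (A := A) x)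
    rw [e1, ← LinearEquiv.symm_apply_apply (TensorProduct.assoc k P A A)
      ((Comod.coact (k := k) (A := A)).rTensor A _), coassoc_apply]
    generalize Comod.coact (k := k) (A := A) x = y
    induction y with
    | zero => simp
    | add a b ha hb => simp only [map_add, ha, hb]
    | tmul a b =>
      rw [LinearMap.lTensor_tmul, Algebra.TensorProduct.map_tmul,
        show (g * h).ofConv b = (g * h) b from rfl, AlgHom.convMul_apply]
      generalize CoalgebraStruct.comul (R := k) b = t
      induction t with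
      | zero => simp
      | add u v hu hv => simp only [tmul_add, map_add, hu, hv]
      | tmul u v => simp [Φ]
  have hone : ∀ {R : Type u} [CommRing R] [Algebra k R] (x : P),
      T (1 : WithConv (A →ₐ[k] R)) x = π x ⊗ₜ[k] (1 : R) := by
    intro R _ _ x
    show Algebra.TensorProduct.map π (1 : WithConv (A →ₐ[k] R)).ofConv
      (Comod.coact (k := k) (A := A) x) = _
    have hc : (CoalgebraStruct.counit (R := k) (A := A)).lTensor P (Comod.coact (k := k) (A := A) x)
        = x ⊗ₜ[k] (1 : k) := LinearMap.congr_fun (Comod.counit_comp (k := k) (A := A) (V := P)) x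
    have nat : ∀ y : P ⊗[k] A, Algebra.TensorProduct.map π (1 : WithConv (A →ₐ[k] R)).ofConv y =
        TensorProduct.map π.toLinearMap (Algebra.linearMap k R)
          ((CoalgebraStruct.counit (R := k) (A := A)).lTensor P y) := by
      intro y
      induction y with
      | zero => simp
      | add a b ha hb => simp only [map_add, ha, hb]
      | tmul a b => simp
    rw [nat, hc]
    simp
  refine ⟨J, Groth.Agent.HopfFF.isHopfIdeal_of_subgroup J ?_ ?_ ?_, ?_, ?_⟩
  · intro a ha
    have := ((hT (1 : WithConv (A →ₐ[k] k))).2 (hone f)) a ha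
    simpa using this
  · intro R _ _ g h hg hh
    rw [hT, ← hmul g h, (hT h).1 hh, hΨ, (hT g).1 hg, Algebra.TensorProduct.tmul_mul_tmul, mul_one,
      mul_one]
  · intro R _ _ g hg
    letI : Group (WithConv (A →ₐ[k] R)) := Groth.Agent.HopfFF.pointsGroup
    rw [hT]
    have := congrArg (Ψ g⁻¹) ((hT g).1 hg)
    rw [hmul, inv_mul_cancel, hone, hΨ] at this
    refine Eq.trans ?_ this.symm
    exact (mul_one (T g⁻¹ f)).symm
  · intro I hI
    intro a ha
    refine Ideal.Quotient.eq_zero_iff_mem.1 ((hT (toConv (Ideal.Quotient.mkₐ k I))).2 ?_ a ha)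
    refine Eq.trans ?_ hI
    show Algebra.TensorProduct.map π (Ideal.Quotient.mkₐ k I) (Comod.coact (k := k) (A := A) f) = _
    generalize Comod.coact (k := k) (A := A) f = y
    induction y with
    | zero => simp
    | add a b ha hb => simp only [map_add, ha, hb]
    | tmul a b => simp [π, I₀]
  · intro hJ
    have h := (hT (toConv (AlgHom.id k A))).1 fun a ha => by rw [hJ] at ha; simp_all
    refine Eq.trans ?_ h
    show _ = Algebra.TensorProduct.map π (AlgHom.id k A) (Comod.coact (k := k) (A := A) f)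
    generalize Comod.coact (k := k) (A := A) f = y
    induction y with
    | zero => simp
    | add a b ha hb => simp only [map_add, ha, hb]
    | tmul a b => simp [π, I₀]

/-- A linearly reductive pseudo-reflection moves everything by multiples of one linear form. -/
theorem exists_pseudoRefl_form (hlin : GLin.IsLinear k A ι) (I : Ideal A) [I.IsHopfIdeal k]
    (hI : IsLinearlyReductive k (A ⧸ I)) (hps : GLin.IsPseudoRefl k A ι I) :
    ∃ ℓ : P, ℓ ≠ 0 ∧ ℓ.IsHomogeneous 1 ∧ ∀ f : P,
      (ℓ ⊗ₜ[k] (1 : A ⧸ I)) ∣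
        (LinearMap.lTensor P (Ideal.Quotient.mkₐ k I).toLinearMap (Comod.coact (k := k) (A := A) f) -
          f ⊗ₜ[k] (1 : A ⧸ I)) := by
  let q : A →ₐc[k] A ⧸ I := Bialgebra.Quotient.mkBialgHom (R := k) I
  letI cH : Comod k (A ⧸ I) P := GLin.comodAlong q inferInstance
  haveI : GLin.IsCoactAlg k (A ⧸ I) P := GLin.isCoactAlg_comodAlong q inferInstance inferInstance
  have hH : ∀ f : P, Comod.coact (k := k) (A := A ⧸ I) f =
      LinearMap.lTensor P (Ideal.Quotient.mkₐ k I).toLinearMap (Comod.coact (k := k) (A := A) f) :=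
    fun f => rfl
  obtain ⟨β, hβ, hβ1⟩ := exists_invariant_of_isLinearlyReductive hI
  let R : P →ₗ[k] P := ComodLib.reynolds P β
  have hcH : ∀ (e : ℕ) (f : P), Comod.coact (k := k) (A := A ⧸ I) (hc k ι e f) =
      (hc k ι e).rTensor (A ⧸ I) (Comod.coact (k := k) (A := A ⧸ I) f) := by
    intro e f
    rw [hH, hH, coact_hc hlin, ← LinearMap.comp_apply, LinearMap.lTensor_comp_rTensor,
      ← LinearMap.rTensor_comp_lTensor, LinearMap.comp_apply]
  let V := GLin.linForms k ι
  let W := V ⊓ GLin.quotInvariants k A P I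
  haveI : FiniteDimensional k ↥V := by
    show FiniteDimensional k ↥(homogeneousSubmodule ι k 1)
    rw [homogeneousSubmodule_one_eq_span_X]
    exact FiniteDimensional.span_of_finite k (Set.finite_range _)
  haveI : FiniteDimensional k ↥W := Submodule.finiteDimensional_of_le inf_le_left
  obtain ⟨v₀, hv₀V, hv₀W⟩ : ∃ v ∈ V, v ∉ W := by
    by_contra! h
    have e : W = V := le_antisymm inf_le_left h
    have := hps.2
    change Module.finrank k ↥W + 1 = Module.finrank k ↥V at this
    rw [e] at this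
    omega
  have hVsup : W ⊔ Submodule.span k {v₀} = V := by
    refine Submodule.eq_of_le_of_finrank_le (sup_le inf_le_left
      ((Submodule.span_singleton_le_iff_mem _ _).2 hv₀V)) ?_
    have hlt : W < W ⊔ Submodule.span k {v₀} := lt_of_le_of_ne le_sup_left fun e =>
      hv₀W (e ▸ Submodule.mem_sup_right (Submodule.mem_span_singleton_self _))
    haveI : FiniteDimensional k ↥(W ⊔ Submodule.span k {v₀}) := Submodule.finite_sup _ _
    have := Submodule.finrank_lt_finrank_of_lt hlt
    have := hps.2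
    change Module.finrank k ↥W + 1 = Module.finrank k ↥V at this
    omega
  have hRW : ∀ v ∈ W, R v = v := fun v hv => ComodLib.reynolds_fixed hβ1 hv.2
  let ℓ := v₀ - R v₀
  have hRv₀ : hc k ι 1 (R v₀) = R v₀ := by
    rw [ComodLib.reynolds_natural β (LinearMap.ext fun x => hcH 1 x) v₀, hc_of_mem hv₀V, if_pos rfl]
  have hℓ : ℓ.IsHomogeneous 1 := by
    refine IsHomogeneous.sub hv₀V ?_
    rw [← hRv₀]
    exact homogeneousComponent_isHomogeneous 1 _
  refine ⟨ℓ, fun h0 => hv₀W ?_, hℓ, ?_⟩
  · rw [sub_eq_zero.1 h0]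
    refine ⟨(mem_homogeneousSubmodule _ _).2 ?_, ?_⟩
    · rw [← hRv₀]; exact homogeneousComponent_isHomogeneous 1 _
    · exact ComodLib.reynolds_mem hβ v₀
  have hdiff : ∀ v ∈ V, ∃ a : k, v - R v = a • ℓ := by
    intro v hv
    rw [← hVsup] at hv
    obtain ⟨w, hw, u, hu, rfl⟩ := Submodule.mem_sup.1 hv
    obtain ⟨a, rfl⟩ := Submodule.mem_span_singleton.1 hu
    exact ⟨a, by rw [map_add, map_smul, hRW w hw, smul_sub]; abel⟩
  have hlinV : ∀ v ∈ V, (ℓ ⊗ₜ[k] (1 : A ⧸ I)) ∣
      (Comod.coact (k := k) (A := A ⧸ I) v - v ⊗ₜ[k] (1 : A ⧸ I)) := by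
    intro v hv
    have h1 : (ℓ ⊗ₜ[k] (1 : A ⧸ I)) ∣
        (Comod.coact (k := k) (A := A ⧸ I) v - R v ⊗ₜ[k] (1 : A ⧸ I)) := by
      rw [← rTensor_reynolds hβ hβ1 v, ← hc_of_mem (e := 1) hv |>.trans (if_pos rfl), hcH]
      generalize Comod.coact (k := k) (A := A ⧸ I) v = z
      induction z with
      | zero => simp
      | add a b ha hb =>
        simp only [map_add, add_sub_add_comm]
        exact dvd_add ha hb
      | tmul x c =>
        obtain ⟨a, ha⟩ := hdiff _ ((mem_homogeneousSubmodule _ _).2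
          (homogeneousComponent_isHomogeneous 1 x))
        rw [LinearMap.rTensor_tmul, LinearMap.rTensor_tmul, ← TensorProduct.sub_tmul,
          show hc k ι 1 x - ComodLib.reynolds P β (hc k ι 1 x) = a • ℓ from ha,
          TensorProduct.smul_tmul]
        exact ⟨(1 : P) ⊗ₜ[k] (a • c), by rw [Algebra.TensorProduct.tmul_mul_tmul, mul_one, one_mul]⟩
    obtain ⟨a, ha⟩ := hdiff v hv
    have h2 : (ℓ ⊗ₜ[k] (1 : A ⧸ I)) ∣ (v - R v) ⊗ₜ[k] (1 : A ⧸ I) := by
      rw [ha, TensorProduct.smul_tmul]
      exact ⟨(1 : P) ⊗ₜ[k] (a • 1), by rw [Algebra.TensorProduct.tmul_mul_tmul, mul_one, one_mul]⟩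
    rw [show Comod.coact (k := k) (A := A ⧸ I) v - v ⊗ₜ[k] (1 : A ⧸ I) =
      (Comod.coact (k := k) (A := A ⧸ I) v - R v ⊗ₜ[k] (1 : A ⧸ I)) - (v - R v) ⊗ₜ[k] (1 : A ⧸ I) by
      rw [TensorProduct.sub_tmul]; abel]
    exact dvd_sub h1 h2
  intro f
  rw [← hH, ← Ideal.mem_span_singleton, ← Ideal.Quotient.eq_zero_iff_mem, map_sub, sub_eq_zero]
  refine AlgHom.congr_fun (φ₁ := (Ideal.Quotient.mkₐ k (Ideal.span {ℓ ⊗ₜ[k] (1 : A ⧸ I)})).comp
      (GLin.coactAlgHom k (A ⧸ I) P))
    (φ₂ := (Ideal.Quotient.mkₐ k (Ideal.span {ℓ ⊗ₜ[k] (1 : A ⧸ I)})).comp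
      (Algebra.TensorProduct.includeLeft : P →ₐ[k] P ⊗[k] (A ⧸ I)))
    (MvPolynomial.algHom_ext fun i => ?_) f
  rw [AlgHom.comp_apply, AlgHom.comp_apply, ← sub_eq_zero, ← map_sub, Ideal.Quotient.mkₐ_eq_mk,
    Ideal.Quotient.eq_zero_iff_mem, Ideal.mem_span_singleton]
  exact hlinV _ (isHomogeneous_X k i)

/-- Chevalley's lemma. -/
theorem chevalley (hlin : GLin.IsLinear k A ι) {α : A →ₗ[k] k} (hα : IsInvariant α) (h1 : α 1 = 1)
    (hsub : ∀ (I : Ideal A) [I.IsHopfIdeal k], IsLinearlyReductive k (A ⧸ I))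
    (hgen : GLin.IsGenByPseudoRefl k A ι) {κ : Type*} (s : Finset κ) (g₀ : P) (e₀ : ℕ)
    (hg₀ : g₀ ∈ GLin.invariants k A P) (he₀ : g₀.IsHomogeneous e₀)
    (g : κ → P) (e : κ → ℕ) (hg : ∀ j ∈ s, g j ∈ GLin.invariants k A P)
    (he : ∀ j ∈ s, (g j).IsHomogeneous (e j))
    (hnot : ∀ a : κ → P, (∀ j ∈ s, a j ∈ GLin.invariants k A P) → g₀ ≠ ∑ j ∈ s, a j * g j) :
    ∀ (d : ℕ) (f₀ : P) (f : κ → P), f₀.totalDegree ≤ d → f₀ * g₀ + ∑ j ∈ s, f j * g j = 0 →
      f₀ ∈ hilbert k A ι := by
  intro d
  induction d using Nat.strong_induction_on with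
  | _ d ih =>
  intro f₀ f hdeg hrel
  let R : P →ₗ[k] P := ComodLib.reynolds P α
  -- modulo the Hilbert ideal `f₀` is fixed by every pseudo-reflection
  obtain ⟨J, hJ, hJle, hJbot⟩ := exists_stabilizer (A := A) f₀
  have hfix : ∀ I : Ideal A, GLin.IsPseudoRefl k A ι I → J ≤ I := by
    intro I hI
    haveI := hI.1
    obtain ⟨ℓ, hℓ0, hℓ1, hℓd⟩ := exists_pseudoRefl_form hlin I (hsub I) hI
    refine hJle I (ext_slice fun c => ?_)
    rw [slice_rTensor, slice_tmul, ← sub_eq_zero]
    let ρI : P →ₐ[k] P ⊗[k] (A ⧸ I) := (Algebra.TensorProduct.map (AlgHom.id k P)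
      (Ideal.Quotient.mkₐ k I)).comp (GLin.coactAlgHom k A P)
    have hρI : ∀ x, ρI x = LinearMap.lTensor P (Ideal.Quotient.mkₐ k I).toLinearMap
        (Comod.coact (k := k) (A := A) x) := by
      intro x
      show Algebra.TensorProduct.map (AlgHom.id k P) (Ideal.Quotient.mkₐ k I)
        (Comod.coact (k := k) (A := A) x) = _
      generalize Comod.coact (k := k) (A := A) x = y
      induction y with
      | zero => simp
      | add a b ha hb => simp only [map_add, ha, hb]
      | tmul a b => simp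
    let D : P → P := fun x => slice c (ρI x - x ⊗ₜ[k] (1 : A ⧸ I))
    have hDdvd : ∀ x, ∃ q, D x = ℓ * q := by
      intro x
      obtain ⟨z, hz⟩ := hℓd x
      refine ⟨slice c z, ?_⟩
      show slice c (ρI x - x ⊗ₜ[k] (1 : A ⧸ I)) = _
      rw [hρI, hz, mul_comm (ℓ ⊗ₜ[k] _), slice_mul_tmul, mul_comm]
    choose q hq using hDdvd
    have hDmul : ∀ (x y : P), y ∈ GLin.invariants k A P → D (x * y) = D x * y := by
      intro x y hy
      have hy' : ρI y = y ⊗ₜ[k] (1 : A ⧸ I) := by
        rw [hρI, show Comod.coact (k := k) (A := A) y = y ⊗ₜ[k] (1 : A) from hy,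
          LinearMap.lTensor_tmul, AlgHom.toLinearMap_apply, map_one]
      show slice c (_ - _) = _
      rw [map_mul, hy', show (x * y) ⊗ₜ[k] (1 : A ⧸ I) = x ⊗ₜ[k] 1 * y ⊗ₜ[k] 1 by simp, ← sub_mul,
        slice_mul_tmul]
    have hDadd : ∀ x y, D (x + y) = D x + D y := fun x y => by
      simp only [D, map_add, TensorProduct.add_tmul, add_sub_add_comm]
    have hD0 : D 0 = 0 := by simp [D]
    have hDsum : ∀ (t : Finset κ) (F : κ → P), D (∑ j ∈ t, F j) = ∑ j ∈ t, D (F j) := fun t F =>
      map_sum (AddMonoidHom.mk' D hDadd) F t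
    have hDhc : ∀ x e', hc k ι e' (D x) = D (hc k ι e' x) := by
      intro x e'
      simp only [D, hρI]
      rw [← slice_rTensor, map_sub, LinearMap.rTensor_tmul, coact_hc hlin]
      congr 2
      generalize Comod.coact (k := k) (A := A) x = y
      induction y with
      | zero => simp
      | add a b ha hb => simp only [map_add, ha, hb]
      | tmul a b => simp
    have hD_deg : (D f₀).totalDegree ≤ d := by
      have hsplit : D f₀ = ∑ j ∈ Finset.range (f₀.totalDegree + 1), D (hc k ι j f₀) := by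
        refine (congrArg D (sum_homogeneousComponent f₀).symm).trans ?_
        exact map_sum (AddMonoidHom.mk' D hDadd) _ _
      rw [hsplit]
      refine (totalDegree_finsetSum_le fun j hj => ?_)
      have hj' := Finset.mem_range.1 hj
      have e1 : hc k ι j (D (hc k ι j f₀)) = D (hc k ι j f₀) := by
        rw [hDhc, hc_of_mem (homogeneousComponent_isHomogeneous j f₀), if_pos rfl]
      refine le_trans ?_ (show j ≤ d by omega)
      show (D (hc k ι j f₀)).totalDegree ≤ j
      rw [← e1]
      exact (homogeneousComponent_isHomogeneous j _).totalDegree_le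
    have hrel' : q f₀ * g₀ + ∑ j ∈ s, q (f j) * g j = 0 := by
      have h0 := congrArg D hrel
      rw [hDadd, hD0, hDmul _ _ hg₀, hDsum,
        Finset.sum_congr rfl fun j hj => hDmul (f j) _ (hg j hj)] at h0
      refine (mul_eq_zero.1 ?_).resolve_left hℓ0
      simp only [hq] at h0
      rw [← h0, mul_add, Finset.mul_sum]
      simp only [mul_assoc]
    have hmem : D f₀ ∈ hilbert k A ι := by
      rw [hq]
      refine Ideal.mul_mem_left _ _ ?_
      by_cases hq0 : q f₀ = 0
      · rw [hq0]; exact zero_mem _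
      have hd : (q f₀).totalDegree + 1 ≤ d := by
        rw [hq, totalDegree_mul_of_isDomain hℓ0 hq0, hℓ1.totalDegree hℓ0] at hD_deg
        omega
      exact ih _ (Nat.lt_of_succ_le hd) (q f₀) (fun j => q (f j)) le_rfl hrel'
    have e0 : (Ideal.Quotient.mkₐ k (hilbert k A ι)).toLinearMap (D f₀) = 0 :=
      Ideal.Quotient.eq_zero_iff_mem.2 hmem
    simp only [D, hρI, map_sub, slice_tmul, map_smul] at e0
    exact e0
  have hJ0 : J = ⊥ := le_bot_iff.1 (hgen ▸ le_sSup ⟨hJ, hfix⟩)
  -- hence it agrees with its average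
  have hav : f₀ - R f₀ ∈ hilbert k A ι := by
    rw [← Ideal.Quotient.eq_zero_iff_mem, map_sub, sub_eq_zero]
    show _ = Ideal.Quotient.mkₐ k (hilbert k A ι) (slice (α ∘ₗ HopfAlgebra.antipode k)
      (Comod.coact (k := k) (A := A) f₀))
    rw [← AlgHom.toLinearMap_apply, ← slice_rTensor, hJbot hJ0, slice_tmul, LinearMap.comp_apply,
      HopfAlgebra.antipode_one, h1, one_smul]
  have hRf : R f₀ ∈ GLin.invariants k A P := ComodLib.reynolds_mem hα f₀
  suffices hc0 : coeff 0 (R f₀) = 0 by
    have h := sub_const_mem_hilbert hlin hRf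
    rw [hc0, map_zero, sub_zero] at h
    simpa using add_mem hav h
  -- the constant term vanishes since `g₀` is not in the ideal of the others
  by_contra hne
  have hR : R f₀ * g₀ + ∑ j ∈ s, R (f j) * g j = 0 := by
    have h0 := congrArg R hrel
    rw [map_zero, map_add, reynolds_mul_fixed α f₀ hg₀, map_sum,
      Finset.sum_congr rfl fun j hj => reynolds_mul_fixed α (f j) (hg j hj)] at h0
    exact h0
  have h := congrArg (hc k ι e₀) hR
  rw [map_add, map_zero, map_sum, hc_mul_right _ he₀, if_pos le_rfl, Nat.sub_self, hc_zero,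
    Finset.sum_congr rfl fun j hj => hc_mul_right _ (he j hj)] at h
  refine hnot (fun j => C (-(coeff 0 (R f₀))⁻¹) *
    if e j ≤ e₀ then hc k ι (e₀ - e j) (R (f j)) else 0) (fun j _ => ?_) ?_
  · refine Subalgebra.mul_mem _ ((GLin.invariants k A P).algebraMap_mem _) ?_
    split_ifs
    · exact hc_mem_invariants hlin _ (ComodLib.reynolds_mem hα _)
    · exact Subalgebra.zero_mem _
  · have e1 : ∑ j ∈ s, (C (-(coeff 0 (R f₀))⁻¹) *
        if e j ≤ e₀ then hc k ι (e₀ - e j) (R (f j)) else 0) * g j =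
        C (-(coeff 0 (R f₀))⁻¹) *
          ∑ j ∈ s, if e j ≤ e₀ then hc k ι (e₀ - e j) (R (f j)) * g j else 0 := by
      rw [Finset.mul_sum]
      refine Finset.sum_congr rfl fun j _ => ?_
      split_ifs <;> ring
    rw [e1, eq_neg_of_add_eq_zero_right h, mul_neg, ← mul_assoc, ← map_mul, neg_mul,
      inv_mul_cancel₀ hne]
    simp

end coact

end CSTLib

end
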