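import Mathlib
import Groth.Agent.ComodLib.LinRed
import Groth.Prelude.Def_W4c6stackyreslrsPsRefl

/-! # The stabiliser of a vector of a comodule -/

set_option autoImplicit false
set_option maxHeartbeats 1000000
set_option synthInstance.maxHeartbeats 400000

noncomputable section

open TensorProduct HopfRep

namespace CSTLib

universe u w

variable {k : Type u} [Field k] {A : Type u} [CommRing A] [HopfAlgebra k A]
  {V : Type w} [AddCommGroup V] [Module k V] [Comod k A V]

/-- The closed subgroup scheme fixing a vector. -/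
theorem exists_stab_fixed (f : V) :
    ∃ J : Ideal A, J.IsHopfIdeal k ∧ ∀ I : Ideal A, f ∈ GLin.quotInvariants k A V I ↔ J ≤ I := by
  let ρf := Comod.coact (k := k) (A := A) f
  let a : (V →ₗ[k] k) → A := fun φ => ComodLib.sliceL φ ρf - φ f • (1 : A)
  let J : Ideal A := Ideal.span (Set.range a)
  have key : ∀ I : Ideal A, f ∈ GLin.quotInvariants k A V I ↔ J ≤ I := by
    intro I
    rw [GLin.mem_quotInvariants_iff]
    constructor
    · intro h
      refine Ideal.span_le.2 ?_
      rintro _ ⟨φ, rfl⟩
      refine Ideal.Quotient.eq_zero_iff_mem.1 ?_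
      show Ideal.Quotient.mkₐ k I (ComodLib.sliceL φ ρf - φ f • 1) = 0
      rw [map_sub, map_smul, map_one, ← AlgHom.toLinearMap_apply, ← ComodLib.sliceL_lTensor, h,
        ComodLib.sliceL_tmul, sub_self]
    · intro h
      refine ComodLib.ext_sliceL fun φ => ?_
      rw [ComodLib.sliceL_lTensor, ComodLib.sliceL_tmul, AlgHom.toLinearMap_apply, ← sub_eq_zero,
        ← map_one (Ideal.Quotient.mkₐ k I), ← map_smul, ← map_sub]
      exact Ideal.Quotient.eq_zero_iff_mem.2 (h (Ideal.subset_span ⟨φ, rfl⟩))
  let q : A →ₐ[k] A ⧸ J := Ideal.Quotient.mkₐ k J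
  have hq : q.toLinearMap.lTensor V ρf = f ⊗ₜ[k] (1 : A ⧸ J) := (key J).2 le_rfl
  have hker : ∀ {B : Type u} [CommRing B] [Algebra k B] (g : A →ₐ[k] B),
      (∀ φ, g (ComodLib.sliceL φ ρf) = φ f • (1 : B)) → ∀ x ∈ J, g x = 0 := by
    intro B _ _ g h x hx
    have : J ≤ RingHom.ker g := by
      refine Ideal.span_le.2 ?_
      rintro _ ⟨φ, rfl⟩
      show g (ComodLib.sliceL φ ρf - φ f • 1) = 0
      rw [map_sub, map_smul, map_one, h, sub_self]
    exact this hx
  refine ⟨J, { counit_eq_zero := ?_, map_mkQ_comul_eq_zero := ?_, antipode_mem := ?_ }, key⟩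
  · intro x hx
    refine hker (Bialgebra.counitAlgHom k A) (fun φ => ?_) x hx
    show CoalgebraStruct.counit (ComodLib.sliceL φ ρf) = _
    rw [← ComodLib.apply_slice, ComodLib.slice_counit, smul_eq_mul, mul_one]
  · intro x hx
    let Δq : A →ₐ[k] (A ⧸ J) ⊗[k] (A ⧸ J) :=
      (Algebra.TensorProduct.map q q).comp (Bialgebra.comulAlgHom k A)
    have e : ∀ t : A ⊗[k] A, Algebra.TensorProduct.map q q t = TensorProduct.map q.toLinearMap q.toLinearMap t := by
      intro t
      induction t with
      | zero => simp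
      | add a b ha hb => simp only [map_add, ha, hb]
      | tmul a b => simp
    have h0 : Δq x = 0 := by
      refine hker Δq (fun φ => ?_) x hx
      show Algebra.TensorProduct.map q q (CoalgebraStruct.comul (ComodLib.sliceL φ ρf)) = _
      rw [e, ComodLib.comul_sliceL, ← ComodLib.coassoc_apply, ← ComodLib.sliceL_lTensor]
      have e2 : ∀ z : (V ⊗[k] A) ⊗[k] A,
          (TensorProduct.map q.toLinearMap q.toLinearMap).lTensor V (TensorProduct.assoc k V A A z) =
            TensorProduct.assoc k V (A ⧸ J) (A ⧸ J)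
              (TensorProduct.map (q.toLinearMap.lTensor V) q.toLinearMap z) := by
        intro z
        induction z with
        | zero => simp
        | add a b ha hb => simp only [map_add, ha, hb]
        | tmul p c =>
          induction p with
          | zero => simp [TensorProduct.zero_tmul]
          | add a b ha hb => simp only [TensorProduct.add_tmul, map_add, ha, hb]
          | tmul v b => simp
      have e3 : TensorProduct.map (q.toLinearMap.lTensor V) q.toLinearMap
          ((Comod.coact (k := k) (A := A)).rTensor A ρf) =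
          (q.toLinearMap.lTensor V ρf) ⊗ₜ[k] (1 : A ⧸ J) := by
        have := congrArg ((q.toLinearMap.lTensor V ∘ₗ Comod.coact (k := k) (A := A)).rTensor (A ⧸ J)) hq
        rw [← LinearMap.comp_apply, LinearMap.rTensor_comp_lTensor, LinearMap.rTensor_tmul] at this
        rw [LinearMap.map_rTensor]
        exact this
      rw [e2, e3, hq]
      simp [Algebra.TensorProduct.one_def]
    show TensorProduct.map (J.restrictScalars k).mkQ (J.restrictScalars k).mkQ _ = 0
    exact (e _).symm.trans h0
  · intro x hx
    refine Ideal.Quotient.eq_zero_iff_mem.1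
      (hker (q.comp (HopfAlgebra.antipodeAlgHom k A)) (fun φ => ?_) x hx)
    -- `∑ f₀ ⊗ S f₁ f₂ = f ⊗ 1`, read modulo `J` in the last factor
    let μ : (V ⊗[k] A) ⊗[k] (A ⧸ J) →ₗ[k] V ⊗[k] (A ⧸ J) :=
      (LinearMap.mul' k (A ⧸ J)).lTensor V ∘ₗ (TensorProduct.assoc k V (A ⧸ J) (A ⧸ J)).toLinearMap ∘ₗ
        ((q.toLinearMap ∘ₗ HopfAlgebra.antipode k).lTensor V).rTensor (A ⧸ J)
    have h1 : μ ((Comod.coact (k := k) (A := A)).rTensor (A ⧸ J) (q.toLinearMap.lTensor V ρf)) =
        f ⊗ₜ[k] (1 : A ⧸ J) := by
      have e0 : (Comod.coact (k := k) (A := A)).rTensor (A ⧸ J) (q.toLinearMap.lTensor V ρf) =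
          q.toLinearMap.lTensor (V ⊗[k] A) ((Comod.coact (k := k) (A := A)).rTensor A ρf) := by
        rw [← LinearMap.comp_apply, LinearMap.rTensor_comp_lTensor, ← LinearMap.lTensor_comp_rTensor,
          LinearMap.comp_apply]
      rw [e0, ← LinearEquiv.symm_apply_apply (TensorProduct.assoc k V A A)
          ((Comod.coact (k := k) (A := A)).rTensor A ρf), ComodLib.coassoc_apply]
      have e : ∀ y : V ⊗[k] (A ⊗[k] A),
          μ (q.toLinearMap.lTensor (V ⊗[k] A) ((TensorProduct.assoc k V A A).symm y)) =
            (q.toLinearMap ∘ₗ LinearMap.mul' k A ∘ₗ (HopfAlgebra.antipode k).rTensor A).lTensor V y := by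
        intro y
        induction y with
        | zero => simp
        | add a b ha hb => simp only [map_add, ha, hb]
        | tmul v t =>
          induction t with
          | zero => simp
          | add a b ha hb => simp only [TensorProduct.tmul_add, map_add, ha, hb]
          | tmul a b => simp [μ]
      rw [e, ← LinearMap.lTensor_comp_apply]
      have hant : (q.toLinearMap ∘ₗ LinearMap.mul' k A ∘ₗ (HopfAlgebra.antipode k).rTensor A) ∘ₗ
          CoalgebraStruct.comul = Algebra.linearMap k (A ⧸ J) ∘ₗ CoalgebraStruct.counit := by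
        rw [LinearMap.comp_assoc, LinearMap.comp_assoc, HopfAlgebra.mul_antipode_rTensor_comul,
          ← LinearMap.comp_assoc]
        congr 1
      rw [hant, LinearMap.lTensor_comp_apply]
      have hc : (CoalgebraStruct.counit (R := k) (A := A)).lTensor V ρf = f ⊗ₜ[k] (1 : k) :=
        LinearMap.congr_fun (Comod.counit_comp (k := k) (A := A) (V := V)) f
      rw [hc]
      simp
    rw [hq, LinearMap.rTensor_tmul] at h1
    have h2 : μ (ρf ⊗ₜ[k] (1 : A ⧸ J)) =
        (q.toLinearMap ∘ₗ HopfAlgebra.antipode k).lTensor V ρf := by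
      generalize ρf = z
      induction z with
      | zero => simp [TensorProduct.zero_tmul]
      | add a b ha hb => rw [TensorProduct.add_tmul, map_add, ha, hb, map_add]
      | tmul v a => simp [μ]
    have h3 : (q.toLinearMap ∘ₗ HopfAlgebra.antipode k).lTensor V ρf = f ⊗ₜ[k] (1 : A ⧸ J) :=
      h2.symm.trans h1
    have := congrArg (ComodLib.sliceL φ) h3
    rw [ComodLib.sliceL_lTensor, ComodLib.sliceL_tmul] at this
    exact this

theorem quotInvariants_mono {I I' : Ideal A} (h : I ≤ I') :
    GLin.quotInvariants k A V I ≤ GLin.quotInvariants k A V I' := fun f hf => by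
  obtain ⟨J, -, hJ⟩ := exists_stab_fixed (k := k) (A := A) f
  exact (hJ I').2 (((hJ I).1 hf).trans h)

end CSTLib

end
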