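import Mathlib
import Groth.Agent.ComodLib.LinRed
import Groth.Agent.HopfFFLib.Consequences
import Groth.Prelude.Def_GLin

/-! # A ring is integral over the invariants of a finite group scheme -/

set_option autoImplicit false

noncomputable section

open TensorProduct HopfRep WithConv Algebra.TensorProduct

namespace CSTLib

universe u

variable {k : Type u} [Field k] {A : Type u} [CommRing A] [HopfAlgebra k A]

theorem conv_antipode_cancel {T : Type u} [CommRing T] [Algebra k T] (f g : A →ₐ[k] T) :
    (toConv (f.comp (HopfAlgebra.antipodeAlgHom k A)) * (toConv f * toConv g)).ofConv = g := by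
  rw [← mul_assoc, Groth.Agent.HopfFF.conv_comp_antipode_mul, one_mul, ofConv_toConv]

section baseChange

variable {R S : Type u} [CommRing R] [Algebra k R] [CommRing S] [Algebra k S]
  {n : Type u} [Fintype n] [DecidableEq n] (bA : Module.Basis n k A)

theorem map_leftMulMatrix (f : R →ₐ[k] S) (y : R ⊗[k] A) :
    (Algebra.leftMulMatrix (Algebra.TensorProduct.basis R bA) y).map f =
      Algebra.leftMulMatrix (Algebra.TensorProduct.basis S bA)
        (Algebra.TensorProduct.map f (AlgHom.id k A) y) := by
  ext i j
  rw [Matrix.map_apply, Algebra.leftMulMatrix_eq_repr_mul, Algebra.leftMulMatrix_eq_repr_mul,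
    basis_apply, basis_apply]
  induction y with
  | zero => simp
  | add a b ha hb => simp only [add_mul, map_add, Finsupp.add_apply, ha, hb]
  | tmul r a =>
    simp only [Algebra.TensorProduct.map_tmul, AlgHom.id_apply, tmul_mul_tmul, mul_one,
      basis_repr_tmul, Finsupp.smul_apply, Finsupp.mapRange_apply, smul_eq_mul, map_mul,
      AlgHom.commutes]

end baseChange

variable [Module.Finite k A] {R : Type u} [CommRing R] [Algebra k R] [Comod k A R]
  [GLin.IsCoactAlg k A R]

/-- The ring is integral over the invariants. -/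
theorem isIntegral_invariants : Algebra.IsIntegral (GLin.invariants k A R) R := by
  classical
  let n := Module.Free.ChooseBasisIndex k A
  let bA := Module.Free.chooseBasis k A
  refine ⟨fun b => ?_⟩
  rcases subsingleton_or_nontrivial R with hR | hR
  · rw [Subsingleton.elim b 0]
    exact isIntegral_zero
  let ρ : R →ₐ[k] R ⊗[k] A := GLin.coactAlgHom k A R
  let inl : R →ₐ[k] R ⊗[k] A := Algebra.TensorProduct.includeLeft
  let M := Algebra.leftMulMatrix (Algebra.TensorProduct.basis R bA) (ρ b)
  let χ := M.charpoly
  let S := R ⊗[k] A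
  let i2 : A →ₐ[k] S ⊗[k] A :=
    (Algebra.TensorProduct.includeLeft : S →ₐ[k] S ⊗[k] A).comp Algebra.TensorProduct.includeRight
  let i3 : A →ₐ[k] S ⊗[k] A := Algebra.TensorProduct.includeRight
  let σ : S ⊗[k] A →ₐ[S] S ⊗[k] A :=
    Algebra.TensorProduct.lift (Algebra.ofId S (S ⊗[k] A)) (toConv i2 * toConv i3).ofConv
      fun x y => mul_comm (G := S ⊗[k] A) _ _
  let τ : S ⊗[k] A →ₐ[S] S ⊗[k] A :=
    Algebra.TensorProduct.lift (Algebra.ofId S (S ⊗[k] A))
      (toConv (i2.comp (HopfAlgebra.antipodeAlgHom k A)) * toConv i3).ofConv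
      fun x y => mul_comm (G := S ⊗[k] A) _ _
  have halg : ∀ z : S, algebraMap S (S ⊗[k] A) z = z ⊗ₜ[k] (1 : A) := fun z => rfl
  have hσ2 : (σ.restrictScalars k).comp i2 = i2 := by
    ext a
    simp [σ, i2, Algebra.ofId_apply, halg]
  have hσ3 : (σ.restrictScalars k).comp i3 = (toConv i2 * toConv i3).ofConv := by
    ext a
    simp [σ, i3]
  have hστ : σ.comp τ = AlgHom.id S (S ⊗[k] A) := by
    refine Algebra.TensorProduct.ext (Subsingleton.elim _ _) ?_
    have e : (σ.restrictScalars k).comp
        (toConv (i2.comp (HopfAlgebra.antipodeAlgHom k A)) * toConv i3).ofConv = i3 := by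
      rw [AlgHom.comp_convMul_distrib, ofConv_toConv, ofConv_toConv, ← AlgHom.comp_assoc, hσ2, hσ3,
        WithConv.toConv_ofConv (toConv i2 * toConv i3)]
      exact conv_antipode_cancel i2 i3
    ext a
    show σ (τ ((1 : S) ⊗ₜ[k] a)) = (1 : S) ⊗ₜ[k] a
    rw [show τ ((1 : S) ⊗ₜ[k] a) =
      (toConv (i2.comp (HopfAlgebra.antipodeAlgHom k A)) * toConv i3).ofConv a by simp [τ]]
    exact AlgHom.congr_fun e a
  have hσsurj : Function.Surjective σ := fun z => ⟨τ z, AlgHom.congr_fun hστ z⟩
  have hσbij : Function.Bijective σ :=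
    ⟨OrzechProperty.injective_of_surjective_endomorphism σ.toLinearMap hσsurj, hσsurj⟩
  -- invariance of the coefficients
  have hσz : σ (Algebra.TensorProduct.map inl (AlgHom.id k A) (ρ b)) =
      Algebra.TensorProduct.map ρ (AlgHom.id k A) (ρ b) := by
    have e1 : ∀ y : R ⊗[k] A, σ (Algebra.TensorProduct.map inl (AlgHom.id k A) y) =
        (TensorProduct.assoc k R A A).symm
          ((CoalgebraStruct.comul (R := k) (A := A)).lTensor R y) := by
      intro y
      induction y with
      | zero => simp
      | add a b ha hb => simp only [map_add, ha, hb]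
      | tmul r a =>
        rw [Algebra.TensorProduct.map_tmul, AlgHom.id_apply, Algebra.TensorProduct.lift_tmul,
          show (toConv i2 * toConv i3).ofConv a = (toConv i2 * toConv i3) a from rfl,
          AlgHom.convMul_apply, LinearMap.lTensor_tmul]
        generalize CoalgebraStruct.comul (R := k) a = t
        induction t with
        | zero => simp
        | add u v hu hv => simp only [tmul_add, map_add, mul_add, hu, hv]
        | tmul u v =>
          simp [i2, i3, inl, Algebra.ofId_apply, halg, tmul_mul_tmul]
          exact congrArg (· ⊗ₜ[k] v) ((tmul_mul_tmul r (1 : R) (1 : A) u).trans (by rw [mul_one, one_mul]))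
    have e2 : ∀ y : R ⊗[k] A, Algebra.TensorProduct.map ρ (AlgHom.id k A) y =
        LinearMap.rTensor A (Comod.coact (k := k) (A := A)) y := by
      intro y
      induction y with
      | zero => simp
      | add a b ha hb => simp only [map_add, ha, hb]
      | tmul r a => simp [ρ]
    rw [e1, e2, show ρ b = Comod.coact (k := k) (A := A) b from rfl, ← ComodLib.coassoc_apply,
      LinearEquiv.symm_apply_apply]
  have hχ : χ.map (ρ : R →+* S) = χ.map (inl : R →+* S) := by
    rw [← Matrix.charpoly_map, ← Matrix.charpoly_map]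
    show (M.map ρ).charpoly = (M.map inl).charpoly
    rw [map_leftMulMatrix bA ρ, map_leftMulMatrix bA inl, ← hσz]
    generalize Algebra.TensorProduct.map inl (AlgHom.id k A) (ρ b) = z
    rw [Algebra.leftMulMatrix_apply, Algebra.leftMulMatrix_apply, LinearMap.charpoly_toMatrix,
      LinearMap.charpoly_toMatrix]
    rw [← LinearEquiv.charpoly_conj (AlgEquiv.ofBijective σ hσbij).toLinearEquiv (Algebra.lmul S _ z)]
    congr 1
    refine LinearMap.ext fun w => ?_
    obtain ⟨w', rfl⟩ := hσsurj w
    simp [LinearEquiv.conj_apply, AlgEquiv.ofBijective_apply, AlgEquiv.symm_apply_eq]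
  have hcoef : ∀ j, χ.coeff j ∈ GLin.invariants k A R := by
    intro j
    have h := congrArg (fun p => Polynomial.coeff p j) hχ
    simp only [Polynomial.coeff_map] at h
    exact h
  -- Cayley–Hamilton
  have hCH : Polynomial.aeval b χ = 0 := by
    have h0 : Polynomial.aeval M χ = 0 := M.aeval_self_charpoly
    rw [Polynomial.aeval_algHom_apply] at h0
    have h1 : Polynomial.aeval (ρ b) χ = 0 :=
      Algebra.leftMulMatrix_injective _ (h0.trans (map_zero _).symm)
    let ev : R ⊗[k] A →ₐ[R] R :=
      Algebra.TensorProduct.lift (AlgHom.id R R) ((Algebra.ofId k R).comp (Bialgebra.counitAlgHom k A))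
        fun x y => mul_comm (G := R) _ _
    have h2 := congrArg ev h1
    rw [← Polynomial.aeval_algHom_apply, map_zero] at h2
    have hev : ev (ρ b) = b := by
      have hc := LinearMap.congr_fun (Comod.counit_comp (k := k) (A := A) (V := R)) b
      have nat : ∀ y : R ⊗[k] A, ev y =
          TensorProduct.rid k R ((CoalgebraStruct.counit (R := k) (A := A)).lTensor R y) := by
        intro y
        induction y with
        | zero => simp
        | add a b ha hb => simp only [map_add, ha, hb]
        | tmul r a => simp [ev, Algebra.smul_def, Algebra.ofId_apply, mul_comm]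
      rw [nat, show ρ b = Comod.coact (k := k) (A := A) b from rfl]
      simp only [LinearMap.comp_apply] at hc
      rw [hc]
      simp
    rwa [hev] at h2
  obtain ⟨q, hq, hqdeg, hqm⟩ := Polynomial.lifts_and_degree_eq_and_monic
    (f := algebraMap (GLin.invariants k A R) R) (p := χ)
    ((Polynomial.lifts_iff_coeff_lifts χ).2 fun j => ⟨⟨_, hcoef j⟩, rfl⟩) (Matrix.charpoly_monic M)
  refine ⟨q, hqm, ?_⟩
  rw [← Polynomial.aeval_def, ← Polynomial.aeval_map_algebraMap R, hq]
  exact hCH

end CSTLib

end
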