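import Mathlib
import Groth.Agent.CSTLib.Basic
import Groth.Agent.RegFlatLib.Basic

/-! # Chevalley–Shephard–Todd for linearly reductive group schemes: the invariants are polynomial -/

set_option autoImplicit false
set_option maxHeartbeats 1000000
set_option synthInstance.maxHeartbeats 400000

noncomputable section

open TensorProduct HopfRep MvPolynomial
open ComodLib hiding coeff

namespace CSTLib

universe u

variable {k : Type u} [Field k] {A : Type u} [CommRing A] [HopfAlgebra k A] {ι : Type u} [Fintype ι]
  [Comod k A (MvPolynomial ι k)] [GLin.IsCoactAlg k A (MvPolynomial ι k)]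

local notation "P" => MvPolynomial ι k

local notation "Cinv" => GLin.invariants k A (MvPolynomial ι k)

/-- Finitely many homogeneous invariants of positive degree generate the Hilbert ideal and the invariants. -/
theorem exists_generators (hlin : GLin.IsLinear k A ι) {α : A →ₗ[k] k} (hα : IsInvariant α)
    (h1 : α 1 = 1) :
    ∃ t : Finset P, (t : Set P) ⊆ posInv k A ι ∧ hilbert k A ι = Ideal.span (t : Set P) ∧
      Cinv = Algebra.adjoin k (t : Set P) := by
  classical
  obtain ⟨t, htG, ht⟩ := (Submodule.fg_span_iff_fg_span_finset_subset (posInv k A ι)).1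
    (IsNoetherian.noetherian (hilbert k A ι))
  refine ⟨t, htG, ht, le_antisymm ?_ (Algebra.adjoin_le fun g hg => (htG hg).1)⟩
  have key : ∀ d, ∀ f ∈ Cinv, f.IsHomogeneous d → f ∈ Algebra.adjoin k (t : Set P) := by
    intro d
    induction d using Nat.strong_induction_on with
    | _ d ih =>
      intro f hf hfd
      rcases Nat.eq_zero_or_pos d with rfl | hd
      · have hf' : f = C (coeff 0 f) := by
          rw [← hc_zero, hc_of_mem hfd, if_pos rfl]
        rw [hf']
        exact Subalgebra.algebraMap_mem _ _
      · have hfI : f ∈ Submodule.span P (t : Set P) := by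
          have h0 : f ∈ hilbert k A ι := Ideal.subset_span ⟨hf, d, hd, hfd⟩
          rw [show hilbert k A ι = Submodule.span P (t : Set P) from ht] at h0
          exact h0
        obtain ⟨g, -, hg⟩ := Submodule.mem_span_finset.1 hfI
        have h2 : f = ∑ a ∈ t, hc k ι d (ComodLib.reynolds P α (g a) * a) := by
          conv_lhs => rw [← (if_pos rfl : (if d = d then f else 0) = f),
            ← hc_of_mem hfd, ← ComodLib.reynolds_fixed h1 hf, ← hg]
          rw [map_sum, map_sum]
          refine Finset.sum_congr rfl fun a ha => ?_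
          rw [smul_eq_mul, reynolds_mul_fixed α _ (htG ha).1]
        rw [h2]
        refine Subalgebra.sum_mem _ fun a ha => ?_
        obtain ⟨-, e, he, hae⟩ := htG ha
        rw [hc_mul_right _ hae]
        split_ifs with hed
        · exact Subalgebra.mul_mem _ (ih (d - e) (by omega) _
            (hc_mem_invariants hlin _ (ComodLib.reynolds_mem hα _))
            (homogeneousComponent_isHomogeneous _ _)) (Algebra.subset_adjoin ha)
        · exact Subalgebra.zero_mem _
  intro f hf
  rw [← sum_homogeneousComponent f]
  exact Subalgebra.sum_mem _ fun j _ => key j _ (hc_mem_invariants hlin j hf)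
    (homogeneousComponent_isHomogeneous j f)

/-- Homogeneous invariant coefficients against elements independent modulo the Hilbert ideal. -/
theorem coeff_eq_zero (hlin : GLin.IsLinear k A ι) {α : A →ₗ[k] k} (hα : IsInvariant α) (h1 : α 1 = 1)
    (hsub : ∀ (I : Ideal A) [I.IsHopfIdeal k], IsLinearlyReductive k (A ⧸ I))
    (hgen : GLin.IsGenByPseudoRefl k A ι) {κ : Type*} (s : Finset κ) :
    ∀ (f c : κ → P) (e : κ → ℕ), (∀ j ∈ s, c j ∈ Cinv) → (∀ j ∈ s, (c j).IsHomogeneous (e j)) →
      (∀ μ : κ → k, ∑ j ∈ s, μ j • Ideal.Quotient.mk (hilbert k A ι) (f j) = 0 → ∀ j ∈ s, μ j = 0) →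
      ∑ j ∈ s, f j * c j = 0 → ∀ j ∈ s, c j = 0 := by
  classical
  induction s using Finset.induction with
  | empty => simp
  | insert j₀ s hj₀ ih =>
    intro f c e hc he hli hrel
    by_cases hex : ∃ a : κ → P, (∀ j ∈ s, a j ∈ Cinv) ∧ c j₀ = ∑ j ∈ s, a j * c j
    · obtain ⟨a, ha, hca⟩ := hex
      rw [Finset.sum_insert hj₀] at hrel
      have hs : ∀ j ∈ s, c j = 0 := by
        refine ih (fun j => f j + a j * f j₀) c e (fun j hj => hc j (Finset.mem_insert_of_mem hj))
          (fun j hj => he j (Finset.mem_insert_of_mem hj)) (fun μ hμ => ?_) ?_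
        · have hmk : ∀ j ∈ s, Ideal.Quotient.mk (hilbert k A ι) (f j + a j * f j₀) =
              Ideal.Quotient.mk (hilbert k A ι) (f j) +
                coeff 0 (a j) • Ideal.Quotient.mk (hilbert k A ι) (f j₀) := by
            intro j hj
            have e1 : Ideal.Quotient.mk (hilbert k A ι) (a j) =
                Ideal.Quotient.mk (hilbert k A ι) (C (coeff 0 (a j))) :=
              Ideal.Quotient.eq.2 (sub_const_mem_hilbert hlin (ha j hj))
            rw [map_add, map_mul, e1, ← map_mul, ← smul_eq_C_mul]
            rfl
          rw [Finset.sum_congr rfl fun j hj => by rw [hmk j hj, smul_add, smul_smul],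
            Finset.sum_add_distrib, ← Finset.sum_smul] at hμ
          have := hli (fun j => if j = j₀ then ∑ i ∈ s, μ i * coeff 0 (a i) else μ j) (by
            rw [Finset.sum_insert hj₀, if_pos rfl, add_comm,
              Finset.sum_congr rfl fun j hj => by rw [if_neg (ne_of_mem_of_not_mem hj hj₀)]]
            exact hμ)
          intro j hj
          have h2 := this j (Finset.mem_insert_of_mem hj)
          rwa [if_neg (ne_of_mem_of_not_mem hj hj₀)] at h2
        · rw [← hrel, hca, Finset.mul_sum, ← Finset.sum_add_distrib]
          exact Finset.sum_congr rfl fun j _ => by ring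
      intro j hj
      rcases Finset.mem_insert.1 hj with rfl | hj
      · rw [hca]
        exact Finset.sum_eq_zero fun i hi => by rw [hs i hi, mul_zero]
      · exact hs j hj
    · exfalso
      push_neg at hex
      rw [Finset.sum_insert hj₀] at hrel
      have hmem := chevalley hlin hα h1 hsub hgen s (c j₀) (e j₀) (hc j₀ (Finset.mem_insert_self _ _))
        (he j₀ (Finset.mem_insert_self _ _)) c e (fun j hj => hc j (Finset.mem_insert_of_mem hj))
        (fun j hj => he j (Finset.mem_insert_of_mem hj)) hex _ (f j₀) f le_rfl hrel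
      have := hli (fun j => if j = j₀ then 1 else 0) (by
        rw [Finset.sum_insert hj₀, if_pos rfl, Ideal.Quotient.eq_zero_iff_mem.2 hmem, smul_zero,
          zero_add]
        exact Finset.sum_eq_zero fun j hj => by
          rw [if_neg (ne_of_mem_of_not_mem hj hj₀), zero_smul]) j₀ (Finset.mem_insert_self _ _)
      simp at this

/-- The polynomial ring is flat over the invariants. -/
theorem flat_invariants (hlin : GLin.IsLinear k A ι) {α : A →ₗ[k] k} (hα : IsInvariant α) (h1 : α 1 = 1)
    (hsub : ∀ (I : Ideal A) [I.IsHopfIdeal k], IsLinearlyReductive k (A ⧸ I))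
    (hgen : GLin.IsGenByPseudoRefl k A ι) : Module.Flat ↥Cinv P := by
  classical
  let π : P →ₗ[k] P ⧸ hilbert k A ι := (Ideal.Quotient.mkₐ k (hilbert k A ι)).toLinearMap
  let mono : (ι →₀ ℕ) → P := fun d => monomial d 1
  obtain ⟨κ, a, -, hspan, hli⟩ := exists_linearIndependent' k (fun d => π (mono d))
  have hπspan : Submodule.span k (Set.range fun d => π (mono d)) = ⊤ := by
    rw [Set.range_comp' π mono, ← Submodule.map_span,
      show Submodule.span k (Set.range mono) = ⊤ from
        (MvPolynomial.basisMonomials ι k).span_eq, Submodule.map_top]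
    exact LinearMap.range_eq_top.2 Ideal.Quotient.mk_surjective
  let e : κ → P := fun j => mono (a j)
  have hdeg : ∀ j, (e j).IsHomogeneous (a j).degree := fun j => isHomogeneous_monomial 1 rfl
  have hind : LinearIndependent ↥Cinv e := by
    rw [linearIndependent_iff']
    intro s c hrel
    suffices h : ∀ n, ∀ j ∈ s, (if (a j).degree ≤ n then hc k ι (n - (a j).degree) (c j : P) else 0) = 0 by
      intro j hj
      refine Subtype.ext ?_
      rw [ZeroMemClass.coe_zero, ← sum_homogeneousComponent (c j : P)]
      refine Finset.sum_eq_zero fun m _ => ?_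
      have := h (m + (a j).degree) j hj
      rwa [if_pos (Nat.le_add_left _ _), Nat.add_sub_cancel] at this
    intro n
    refine coeff_eq_zero hlin hα h1 hsub hgen s e _ (fun j => n - (a j).degree) (fun j _ => ?_)
      (fun j _ => ?_) (fun μ hμ => ?_) ?_
    · split_ifs
      · exact hc_mem_invariants hlin _ (c j).2
      · exact Subalgebra.zero_mem _
    · split_ifs
      · exact homogeneousComponent_isHomogeneous _ _
      · exact isHomogeneous_zero _ _ _
    · intro j hj
      exact linearIndependent_iff'.1 hli s μ hμ j hj
    · have h := congrArg (hc k ι n) hrel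
      rw [map_sum, map_zero] at h
      refine Eq.trans (Finset.sum_congr rfl fun j _ => ?_) h
      rw [Subalgebra.smul_def, smul_eq_mul, hc_mul_right _ (hdeg j)]
      split_ifs
      · exact mul_comm _ _
      · exact mul_zero _
  have hgenerate : ⊤ ≤ Submodule.span ↥Cinv (Set.range e) := by
    have key : ∀ d, ∀ f : P, f.IsHomogeneous d → f ∈ Submodule.span ↥Cinv (Set.range e) := by
      intro d
      induction d using Nat.strong_induction_on with
      | _ d ih =>
        intro f hf
        have hf' : π f ∈ Submodule.span k (Set.range ((fun d => π (mono d)) ∘ a)) := by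
          rw [hspan, hπspan]; exact Submodule.mem_top
        obtain ⟨μ, hμ⟩ := Finsupp.mem_span_range_iff_exists_finsupp.1 hf'
        have hI : f - ∑ j ∈ μ.support, μ j • e j ∈ hilbert k A ι := by
          refine Ideal.Quotient.eq_zero_iff_mem.1 ?_
          show π (f - _) = 0
          rw [map_sub, map_sum, ← hμ, Finsupp.sum, sub_eq_zero]
          exact Finset.sum_congr rfl fun j _ => by simp [e]
        have hsplit : f = hc k ι d (f - ∑ j ∈ μ.support, μ j • e j) +
            ∑ j ∈ μ.support, μ j • hc k ι d (e j) := by
          rw [map_sub, map_sum, hc_of_mem hf, if_pos rfl]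
          simp only [map_smul]
          abel
        rw [hsplit]
        refine add_mem ?_ (sum_mem fun j _ => ?_)
        · generalize f - ∑ j ∈ μ.support, μ j • e j = z at hI
          induction hI using Submodule.span_induction with
          | mem g hg =>
            obtain ⟨hgi, eg, heg, hgd⟩ := hg
            rw [hc_of_mem hgd]
            split_ifs with h
            · have h1mem : (1 : P) ∈ Submodule.span ↥Cinv (Set.range e) :=
                ih 0 (by omega) 1 (isHomogeneous_one _ _)
              have := Submodule.smul_mem _ (⟨g, hgi⟩ : ↥Cinv) h1mem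
              rwa [Subalgebra.smul_def, smul_eq_mul, mul_one] at this
            · exact zero_mem _
          | zero => simp
          | add x y _ _ hx hy => rw [map_add]; exact add_mem hx hy
          | smul c x hxI hx =>
            clear hx
            induction hxI using Submodule.span_induction generalizing c with
            | mem g hg =>
              obtain ⟨hgi, eg, heg, hgd⟩ := hg
              rw [smul_eq_mul, hc_mul_right _ hgd]
              split_ifs with h
              · rw [mul_comm]
                exact Submodule.smul_mem _ (⟨g, hgi⟩ : ↥Cinv)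
                  (ih (d - eg) (by omega) _ (homogeneousComponent_isHomogeneous _ _))
              · exact zero_mem _
            | zero => simp
            | add x y _ _ hx hy => rw [smul_add, map_add]; exact add_mem (hx c) (hy c)
            | smul c' x _ hx => rw [smul_smul]; exact hx _
        · rw [hc_of_mem (hdeg j)]
          split_ifs
          · rw [Algebra.smul_def]
            exact Submodule.smul_mem _ (algebraMap k ↥Cinv (μ j))
              (Submodule.subset_span ⟨j, rfl⟩)
          · rw [smul_zero]; exact zero_mem _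
    intro f _
    rw [← sum_homogeneousComponent f]
    exact sum_mem fun d _ => key d _ (homogeneousComponent_isHomogeneous d f)
  haveI : Module.Free ↥Cinv P := Module.Free.of_basis (Module.Basis.mk hind hgenerate)
  infer_instance

/-- Among finitely many generators of the maximal ideal one finds a minimal system of generators. -/
theorem exists_subfamily_generators (R : Type u) [CommRing R] [IsLocalRing R] [IsNoetherianRing R]
    {σ : Type u} [Finite σ] (x : σ → R) (hx : IsLocalRing.maximalIdeal R = Ideal.span (Set.range x)) :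
    ∃ (κ : Type u) (_ : Fintype κ) (a : κ → σ),
      IsLocalRing.maximalIdeal R = Ideal.span (Set.range (x ∘ a)) ∧
        Fintype.card κ = (IsLocalRing.maximalIdeal R).spanFinrank := by
  have hmem : ∀ c, x c ∈ IsLocalRing.maximalIdeal R := fun c => by
    rw [hx]; exact Ideal.subset_span ⟨c, rfl⟩
  let y : σ → IsLocalRing.maximalIdeal R := fun c => ⟨x c, hmem c⟩
  have hgen : Submodule.span R (Set.range y) = ⊤ := by
    apply Submodule.map_injective_of_injective (IsLocalRing.maximalIdeal R).injective_subtype
    rw [Submodule.map_span, Submodule.map_top, Submodule.range_subtype, ← Set.range_comp]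
    exact hx.symm
  let v : σ → IsLocalRing.CotangentSpace R := fun c => Ideal.toCotangent _ (y c)
  obtain ⟨κ, a, ha, hsp, hli⟩ := exists_linearIndependent' (IsLocalRing.ResidueField R) v
  haveI : Finite κ := Finite.of_injective a ha
  haveI := Fintype.ofFinite κ
  have hcot : Submodule.span (IsLocalRing.ResidueField R) (Set.range (v ∘ a)) = ⊤ := by
    rw [hsp, show Set.range v = (IsLocalRing.maximalIdeal R).toCotangent '' Set.range y from
      Set.range_comp _ y, IsLocalRing.CotangentSpace.span_image_eq_top_iff, hgen]
  have hgenu : Submodule.span R (Set.range (y ∘ a)) = ⊤ := by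
    rw [← IsLocalRing.CotangentSpace.span_image_eq_top_iff, ← Set.range_comp]
    exact hcot
  refine ⟨κ, inferInstance, a, ?_, ?_⟩
  · have h := congrArg (Submodule.map (IsLocalRing.maximalIdeal R).subtype) hgenu
    rw [Submodule.map_span, Submodule.map_top, Submodule.range_subtype, ← Set.range_comp] at h
    exact h.symm
  · rw [IsLocalRing.spanFinrank_maximalIdeal_eq_finrank_cotangentSpace,
      Module.finrank_eq_card_basis (Module.Basis.mk hli hcot.ge)]

/-- The invariants form a polynomial ring on homogeneous invariants of positive degree. -/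
theorem exists_algEquiv_generators (hlin : GLin.IsLinear k A ι) (hG : IsLinearlyReductive k A)
    (hsub : ∀ (I : Ideal A) [I.IsHopfIdeal k], IsLinearlyReductive k (A ⧸ I))
    (hgen : GLin.IsGenByPseudoRefl k A ι) :
    ∃ (m : ℕ) (φ : MvPolynomial (Fin m) k ≃ₐ[k] ↥Cinv),
      ∀ i, ((φ (X i) : ↥Cinv) : P) ∈ posInv k A ι := by
  classical
  obtain ⟨α, hα, h1⟩ := exists_invariant_of_isLinearlyReductive hG
  obtain ⟨t, htG, htI, htC⟩ := exists_generators hlin hα h1
  haveI : Algebra.FiniteType k ↥Cinv := ⟨(Subalgebra.fg_top _).2 ⟨t, htC.symm⟩⟩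
  haveI : IsNoetherianRing ↥Cinv := Algebra.FiniteType.isNoetherianRing k _
  haveI := flat_invariants hlin hα h1 hsub hgen
  let mP : Ideal P := RingHom.ker (constantCoeff : P →+* k)
  haveI : mP.IsPrime := RingHom.ker_isPrime _
  let m : Ideal ↥Cinv := mP.comap (algebraMap ↥Cinv P)
  -- the local ring of the invariants at the origin is regular
  have hflat : (algebraMap ↥Cinv P).Flat := RingHom.flat_algebraMap_iff.2 inferInstance
  let L := Localization.AtPrime m
  letI : Algebra L (Localization.AtPrime mP) :=
    (Localization.localRingHom m mP (algebraMap ↥Cinv P) rfl).toAlgebra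
  haveI : IsLocalHom (algebraMap L (Localization.AtPrime mP)) :=
    Localization.isLocalHom_localRingHom m mP _ rfl
  haveI : Module.Flat L (Localization.AtPrime mP) :=
    RingHom.flat_algebraMap_iff.1 (RingHom.Flat.localRingHom hflat mP m rfl)
  haveI : IsNoetherianRing L := IsLocalization.isNoetherianRing m.primeCompl L inferInstance
  haveI hreg : IsRegularLocalRing L :=
    RegFlatLib.isRegularLocalRing_of_flat L (Localization.AtPrime mP)
  -- the maximal ideal is generated by the homogeneous generators
  let T : Set ↥Cinv := {c | (c : P) ∈ t}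
  have hmem : ∀ c : ↥Cinv, c ∈ m ↔ coeff 0 (c : P) = 0 := fun c => Iff.rfl
  have hTm : T ⊆ (m : Set ↥Cinv) := by
    intro c hc
    obtain ⟨-, d, hd, hcd⟩ := htG hc
    exact (hmem c).2 (hcd.coeff_eq_zero (by simpa using hd.ne))
  have hm : m ≤ Ideal.span T := by
    intro c hc
    have hadj : ∀ z ∈ Algebra.adjoin k (t : Set P), ∃ (a : k) (w : ↥Cinv),
        w ∈ Ideal.span T ∧ z = C a + (w : P) := by
      intro z hz
      induction hz using Algebra.adjoin_induction with
      | mem g hg => exact ⟨0, ⟨g, (htG hg).1⟩, Ideal.subset_span hg, by simp⟩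
      | algebraMap a => exact ⟨a, 0, zero_mem _, by simp [MvPolynomial.algebraMap_eq]⟩
      | add x y _ _ hx hy =>
        obtain ⟨a, w, hw, rfl⟩ := hx
        obtain ⟨b, w', hw', rfl⟩ := hy
        exact ⟨a + b, w + w', add_mem hw hw', by rw [map_add]; push_cast; ring⟩
      | mul x y _ _ hx hy =>
        obtain ⟨a, w, hw, rfl⟩ := hx
        obtain ⟨b, w', hw', rfl⟩ := hy
        refine ⟨a * b, algebraMap k ↥Cinv a * w' + algebraMap k ↥Cinv b * w + w * w', ?_, ?_⟩
        · exact add_mem (add_mem (Ideal.mul_mem_left _ _ hw') (Ideal.mul_mem_left _ _ hw))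
            (Ideal.mul_mem_left _ _ hw')
        · rw [map_mul]; push_cast; simp [MvPolynomial.algebraMap_eq]; ring
    obtain ⟨a, w, hw, hcw⟩ := hadj c (htC ▸ c.2)
    have hw0 : coeff 0 (w : P) = 0 := (hmem w).1 ((Ideal.span_le.2 hTm) hw)
    have ha : a = 0 := by
      have := (hmem c).1 hc
      rw [hcw, coeff_add, coeff_zero_C, hw0, add_zero] at this
      exact this
    rw [ha, map_zero, zero_add] at hcw
    exact (Subtype.ext hcw : c = w) ▸ hw
  have hmT : m = Ideal.span T := le_antisymm hm (Ideal.span_le.2 hTm)
  have hTfin : T.Finite := (t.finite_toSet.preimage Subtype.val_injective.injOn)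
  -- choose a minimal set of generators among them
  haveI : Finite T := hTfin.to_subtype
  have hgenL : IsLocalRing.maximalIdeal L =
      Ideal.span (Set.range fun c : T => algebraMap ↥Cinv L (c : ↥Cinv)) := by
    refine (IsLocalization.AtPrime.map_eq_maximalIdeal m L).symm.trans ?_
    refine (congrArg (Ideal.map (algebraMap ↥Cinv L)) hmT).trans ?_
    rw [Ideal.map_span]
    congr 1
    ext x
    simp [Set.mem_image]
  obtain ⟨κ, _, a, hgenu, hcard⟩ := exists_subfamily_generators L _ hgenL
  have hdim : ringKrullDim L = Fintype.card κ := by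
    rw [← hreg.spanFinrank_maximalIdeal, hcard]
  let u : κ → ↥Cinv := fun j => (a j : ↥Cinv)
  have hum : ∀ j, u j ∈ m := fun j => hTm (a j).2
  have hu : m ≤ Ideal.span (Set.range u) ⊔ m * m := by
    intro g hg
    have hgL : algebraMap ↥Cinv L g ∈ (Ideal.span (Set.range u)).map (algebraMap ↥Cinv L) := by
      rw [Ideal.map_span, ← Set.range_comp]
      have h : algebraMap ↥Cinv L g ∈ IsLocalRing.maximalIdeal L := by
        rw [← IsLocalization.AtPrime.map_eq_maximalIdeal m L]
        exact Ideal.mem_map_of_mem _ hg
      rw [hgenu] at h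
      exact h
    obtain ⟨⟨⟨b, hb⟩, ⟨s, hs⟩⟩, hbs⟩ :=
      (IsLocalization.mem_map_algebraMap_iff m.primeCompl L).1 hgL
    rw [← map_mul] at hbs
    obtain ⟨⟨r, hr⟩, hrb⟩ := (IsLocalization.eq_iff_exists m.primeCompl L).1 hbs
    have hrs : r * s ∉ m := m.primeCompl.mul_mem hr hs
    set c₀ := coeff 0 ((r * s : ↥Cinv) : P)
    have hc₀ : c₀ ≠ 0 := fun h => hrs ((hmem _).2 h)
    have hdiff : r * s - algebraMap k ↥Cinv c₀ ∈ m := (hmem _).2 (by
      push_cast [MvPolynomial.algebraMap_eq]
      simp [c₀])
    have hg' : g = algebraMap k ↥Cinv c₀⁻¹ * (r * b) -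
        algebraMap k ↥Cinv c₀⁻¹ * ((r * s - algebraMap k ↥Cinv c₀) * g) := by
      have h : r * b = g * (r * s) := by
        have := hrb
        simp only at this
        rw [← this]; ring
      rw [h, sub_mul, mul_sub, mul_comm g, sub_sub_cancel, ← mul_assoc, ← map_mul,
        inv_mul_cancel₀ hc₀, map_one, one_mul]
    rw [hg']
    refine sub_mem (Ideal.mem_sup_left (Ideal.mul_mem_left _ _ (Ideal.mul_mem_left _ _ hb)))
      (Ideal.mem_sup_right (Ideal.mul_mem_left _ _ (Ideal.mul_mem_mul hdiff hg)))
  -- they generate the invariants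
  let U : Subalgebra k P := Algebra.adjoin k (Set.range fun j => (u j : P))
  have hUC : ∀ d, ∀ g ∈ Cinv, g.IsHomogeneous d → g ∈ U := by
    intro d
    induction d using Nat.strong_induction_on with
    | _ d ih =>
      intro g hg hgd
      rcases Nat.eq_zero_or_pos d with rfl | hd
      · rw [show g = C (coeff 0 g) by rw [← hc_zero, hc_of_mem hgd, if_pos rfl]]
        exact Subalgebra.algebraMap_mem _ _
      have hgm : (⟨g, hg⟩ : ↥Cinv) ∈ m := (hmem _).2 (hgd.coeff_eq_zero (by simpa using hd.ne))
      obtain ⟨x, hx, y, hy, hxy⟩ := Submodule.mem_sup.1 (hu hgm)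
      have hg2 : g = hc k ι d ((x : P) + (y : P)) := by
        rw [← Subalgebra.coe_add, hxy, hc_of_mem hgd, if_pos rfl]
      rw [hg2, map_add]
      refine Subalgebra.add_mem _ ?_ ?_
      · obtain ⟨cf, hcf⟩ := (Ideal.mem_span_range_iff_exists_fun).1 hx
        rw [← hcf, AddSubmonoidClass.coe_finsetSum, map_sum]
        refine Subalgebra.sum_mem _ fun j _ => ?_
        obtain ⟨-, e, he, hje⟩ := htG (a j).2
        rw [Subalgebra.coe_mul, hc_mul_right _ hje]
        split_ifs
        · exact Subalgebra.mul_mem _ (ih _ (by omega) _ (hc_mem_invariants hlin _ (cf j).2)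
            (homogeneousComponent_isHomogeneous _ _)) (Algebra.subset_adjoin ⟨j, rfl⟩)
        · exact Subalgebra.zero_mem _
      · clear hxy hg2
        induction hy using Submodule.mul_induction_on' with
        | mem_mul_mem x hx y hy =>
          rw [Subalgebra.coe_mul, ← sum_homogeneousComponent (y : P), Finset.mul_sum, map_sum]
          refine Subalgebra.sum_mem _ fun j _ => ?_
          rw [hc_mul_right _ (homogeneousComponent_isHomogeneous j (y : P))]
          split_ifs with hjd
          · rcases Nat.eq_zero_or_pos j with rfl | hj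
            · rw [show homogeneousComponent 0 (y : P) = 0 by
                rw [homogeneousComponent_zero, (hmem y).1 hy, map_zero], mul_zero]
              exact Subalgebra.zero_mem _
            rcases Nat.eq_zero_or_pos (d - j) with h0 | hdj
            · rw [h0, hc_zero, (hmem x).1 hx, map_zero, zero_mul]
              exact Subalgebra.zero_mem _
            · exact Subalgebra.mul_mem _
                (ih _ (by omega) _ (hc_mem_invariants hlin _ x.2) (homogeneousComponent_isHomogeneous _ _))
                (ih _ (by omega) _ (hc_mem_invariants hlin _ y.2) (homogeneousComponent_isHomogeneous _ _))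
          · exact Subalgebra.zero_mem _
        | add x _ y _ hx hy => rw [Subalgebra.coe_add, map_add]; exact Subalgebra.add_mem _ hx hy
  let e := Fintype.equivFin κ
  let φ : MvPolynomial (Fin (Fintype.card κ)) k →ₐ[k] ↥Cinv := MvPolynomial.aeval fun i => u (e.symm i)
  have hφ : Function.Surjective φ := by
    intro c
    have hcU : (c : P) ∈ U := by
      rw [← sum_homogeneousComponent (c : P)]
      exact Subalgebra.sum_mem _ fun j _ => hUC j _ (hc_mem_invariants hlin j c.2)
        (homogeneousComponent_isHomogeneous j _)
    have : U ≤ ((GLin.invariants k A P).val.comp φ).range := by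
      refine Algebra.adjoin_le ?_
      rintro _ ⟨j, rfl⟩
      exact ⟨X (e j), by simp [φ]⟩
    obtain ⟨p, hp⟩ := this hcU
    exact ⟨p, Subtype.ext hp⟩
  suffices hinj : Function.Injective φ by
    refine ⟨Fintype.card κ, AlgEquiv.ofBijective φ ⟨hinj, hφ⟩, fun i => ?_⟩
    rw [AlgEquiv.ofBijective_apply, show φ (X i) = u (e.symm i) from aeval_X _ _]
    exact htG (a (e.symm i)).2
  -- injectivity by dimension
  rw [RingHom.injective_iff_ker_eq_bot]
  by_contra hne
  obtain ⟨p, hp, hp0⟩ := Submodule.exists_mem_ne_zero_of_ne_bot hne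
  let mX : Ideal (MvPolynomial (Fin (Fintype.card κ)) k) :=
    RingHom.ker (constantCoeff : MvPolynomial (Fin (Fintype.card κ)) k →+* k)
  haveI : mX.IsPrime := RingHom.ker_isPrime _
  have hφc : (constantCoeff : P →+* k).comp ((algebraMap ↥Cinv P).comp φ.toRingHom) =
      constantCoeff := by
    refine MvPolynomial.ringHom_ext (fun r => ?_) fun i => ?_
    · simp [φ]
    · simp only [RingHom.comp_apply, constantCoeff_X]
      show coeff 0 ((φ (X i) : ↥Cinv) : P) = 0
      rw [show φ (X i) = u (e.symm i) from aeval_X _ _]
      exact (hmem _).1 (hum _)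
  have hcomap : mX = m.comap φ.toRingHom := by
    ext x
    show constantCoeff x = 0 ↔ constantCoeff ((algebraMap ↥Cinv P) (φ x)) = 0
    rw [← hφc]
    rfl
  let LX := Localization.AtPrime mX
  let ψ : LX →+* L := Localization.localRingHom mX m φ.toRingHom hcomap
  have hψ : Function.Surjective ψ := by
    intro z
    obtain ⟨⟨c, ⟨s, hs⟩⟩, rfl⟩ := IsLocalization.mk'_surjective m.primeCompl z
    obtain ⟨c', rfl⟩ := hφ c
    obtain ⟨s', rfl⟩ := hφ s
    have hs' : s' ∈ mX.primeCompl := fun h => hs (by rw [hcomap] at h; exact h)
    exact ⟨IsLocalization.mk' LX c' ⟨s', hs'⟩, Localization.localRingHom_mk' _ _ _ _ _ _⟩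
  let r : LX := algebraMap _ LX p
  have hr : r ≠ 0 := fun h => hp0 (IsLocalization.injective LX mX.primeCompl_le_nonZeroDivisors
    (h.trans (map_zero _).symm))
  have hψr : ψ r = 0 := by
    rw [Localization.localRingHom_to_map]
    rw [show φ.toRingHom p = 0 from hp, map_zero]
  have hle : Ideal.span {r} ≤ RingHom.ker ψ :=
    (Ideal.span_singleton_le_iff_mem _).2 hψr
  have h2 : ringKrullDim L ≤ ringKrullDim (LX ⧸ Ideal.span {r}) :=
    ringKrullDim_le_of_surjective (Ideal.Quotient.lift _ ψ fun x hx => hle hx)
      (Ideal.Quotient.lift_surjective_of_surjective _ _ hψ)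
  have h3 := ringKrullDim_quotient_succ_le_of_nonZeroDivisor (R := LX)
    (mem_nonZeroDivisors_of_ne_zero hr)
  have h4 : ringKrullDim LX ≤ (Fintype.card κ : ℕ) := by
    refine le_trans (ringKrullDim_le_spanFinrank_maximalIdeal (R := LX)) ?_
    have hX : mX = Ideal.span (Set.range (X : Fin (Fintype.card κ) → MvPolynomial (Fin (Fintype.card κ)) k)) := by
      refine le_antisymm (fun x hx => ?_) (Ideal.span_le.2 ?_)
      · rw [← Set.image_univ, mem_ideal_span_X_image]
        intro d hd
        by_contra h
        push_neg at h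
        have : d = 0 := Finsupp.ext fun i => h i (Set.mem_univ i)
        subst this
        exact (mem_support_iff.1 hd) hx
      · rintro _ ⟨i, rfl⟩
        simp [mX]
    have hmax : IsLocalRing.maximalIdeal LX =
        Ideal.span ((algebraMap (MvPolynomial (Fin (Fintype.card κ)) k) LX) '' Set.range (X : Fin (Fintype.card κ) → MvPolynomial (Fin (Fintype.card κ)) k)) := by
      rw [← IsLocalization.AtPrime.map_eq_maximalIdeal mX LX, ← Ideal.map_span, ← hX]
    rw [hmax]
    norm_cast
    refine le_trans (Submodule.spanFinrank_span_le_ncard_of_finite ((Set.finite_range _).image _)) ?_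
    refine le_trans (Set.ncard_image_le (Set.finite_range _)) ?_
    rw [← Set.image_univ]
    refine le_trans (Set.ncard_image_le Set.finite_univ) ?_
    simp [Set.ncard_univ]
  rw [hdim] at h2
  have h5 := le_trans (add_le_add_left h2 1) (le_trans h3 h4)
  rw [← Nat.cast_one, ← Nat.cast_add] at h5
  have := WithBot.coe_le_coe.1 h5
  norm_cast at this
  omega

/-- The invariants form a polynomial ring. -/
theorem exists_algEquiv_mvPolynomial (hlin : GLin.IsLinear k A ι) (hG : IsLinearlyReductive k A)
    (hsub : ∀ (I : Ideal A) [I.IsHopfIdeal k], IsLinearlyReductive k (A ⧸ I))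
    (hgen : GLin.IsGenByPseudoRefl k A ι) :
    ∃ m : ℕ, Nonempty (↥Cinv ≃ₐ[k] MvPolynomial (Fin m) k) := by
  obtain ⟨m, φ, -⟩ := exists_algEquiv_generators hlin hG hsub hgen
  exact ⟨m, ⟨φ.symm⟩⟩

end CSTLib

end
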