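import Mathlib
import Groth.Agent.CSTLib.Poly
import Groth.Agent.CSTLib.Integral
import Groth.Agent.GLinFinLib.Points
import Groth.Agent.GLinFinLib.FreeOrbitDim

/-! # A linearisation of the action at a fixed rational point -/

set_option autoImplicit false
set_option maxHeartbeats 1000000
set_option synthInstance.maxHeartbeats 400000

noncomputable section

open TensorProduct HopfRep MvPolynomial
open scoped ComodLib

namespace CSTLib

universe u

variable {k : Type u} [Field k] {A : Type u} [CommRing A] [HopfAlgebra k A]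

section lin

variable {ι : Type u} [Fintype ι] (t : ι → ι → A)

local notation "S" => MvPolynomial ι k

/-- The linear coaction with matrix `t` on the polynomial ring. -/
def linCoact : S →ₐ[k] S ⊗[k] A := aeval fun i => ∑ j, (X j : S) ⊗ₜ[k] t j i

theorem linCoact_X (i : ι) : linCoact (k := k) t (X i) = ∑ j, (X j : S) ⊗ₜ[k] t j i := aeval_X _ _

variable [DecidableEq ι] (hmul : ∀ j i, CoalgebraStruct.comul (R := k) (t j i) = ∑ l, t j l ⊗ₜ[k] t l i)
  (hone : ∀ j i, CoalgebraStruct.counit (R := k) (t j i) = if j = i then (1 : k) else 0)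

include hmul hone in
/-- The polynomial ring as a linear representation. -/
@[reducible] def linComod : Comod k A S where
  coact := (linCoact (k := k) t).toLinearMap
  coassoc := by
    have h : (Algebra.TensorProduct.assoc k k k S A A).toAlgHom.comp
        ((Algebra.TensorProduct.map (linCoact (k := k) t) (AlgHom.id k A)).comp (linCoact (k := k) t)) =
        (Algebra.TensorProduct.map (AlgHom.id k S) (Bialgebra.comulAlgHom k A)).comp
          (linCoact (k := k) t) := by
      refine MvPolynomial.algHom_ext fun i => ?_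
      simp only [AlgHom.comp_apply, linCoact_X, map_sum, Algebra.TensorProduct.map_tmul,
        AlgHom.id_apply, TensorProduct.sum_tmul, Bialgebra.comulAlgHom_apply, hmul,
        TensorProduct.tmul_sum]
      rw [Finset.sum_comm]
      exact Finset.sum_congr rfl fun j _ => Finset.sum_congr rfl fun l _ => rfl
    exact LinearMap.ext fun f => AlgHom.congr_fun h f
  counit_comp := by
    have h : (Algebra.TensorProduct.map (AlgHom.id k S) (Bialgebra.counitAlgHom k A)).comp
        (linCoact (k := k) t) = Algebra.TensorProduct.includeLeft := by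
      refine MvPolynomial.algHom_ext fun i => ?_
      simp only [AlgHom.comp_apply, linCoact_X, map_sum, Algebra.TensorProduct.map_tmul,
        AlgHom.id_apply, Bialgebra.counitAlgHom_apply, Algebra.TensorProduct.includeLeft_apply]
      rw [Finset.sum_eq_single i (fun j _ hj => by rw [hone, if_neg hj, TensorProduct.tmul_zero])
        (fun h => absurd (Finset.mem_univ i) h), hone, if_pos rfl]
    exact LinearMap.ext fun f => AlgHom.congr_fun h f

theorem linComod_isCoactAlg : letI := linComod (k := k) t hmul hone; GLin.IsCoactAlg k A S :=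
  letI := linComod (k := k) t hmul hone
  { coact_one := map_one (linCoact (k := k) t)
    coact_mul := map_mul (linCoact (k := k) t) }

theorem linComod_isLinear : letI := linComod (k := k) t hmul hone; GLin.IsLinear k A ι :=
  fun i => ⟨fun j => t j i, linCoact_X t i⟩

end lin

variable {R : Type u} [CommRing R] [Algebra k R] [Comod k A R] [GLin.IsCoactAlg k A R]
  {x : R →ₐ[k] k}

theorem apply_slice (hx : GLin.IsFixedPt k A x) (c : A →ₗ[k] k) (r : R) :
    x (ComodLib.slice c (Comod.coact (k := k) (A := A) r)) = x r * c 1 := by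
  have h := AlgHom.congr_fun hx r
  rw [GLinFinLib.orbitHom_apply] at h
  have e : ∀ z : R ⊗[k] A, x (ComodLib.slice c z) =
      c (TensorProduct.lid k A (x.toLinearMap.rTensor A z)) := fun z => by
    induction z with
    | zero => simp
    | add a b ha hb => simp only [map_add, ha, hb]
    | tmul a b => simp [mul_comm]
  rw [e, h, AlgHom.comp_apply, Algebra.ofId_apply, Algebra.algebraMap_eq_smul_one, map_smul,
    smul_eq_mul]

theorem apply_reynolds (hx : GLin.IsFixedPt k A x) {α : A →ₗ[k] k} (h1 : α 1 = 1) (r : R) :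
    x (ComodLib.reynolds R α r) = x r := by
  rw [ComodLib.reynolds, LinearMap.comp_apply, apply_slice hx, LinearMap.comp_apply,
    HopfAlgebra.antipode_one, h1, mul_one]

theorem isSubcomod_kerPoint (hx : GLin.IsFixedPt k A x) :
    IsSubcomod (k := k) (A := A) ((RingHom.ker x).restrictScalars k) := by
  rw [ComodLib.isSubcomod_iff]
  intro f r hr
  show x (f • r) = 0
  rw [ComodLib.smul_eq, apply_slice hx, show x r = 0 from hr, zero_mul]

theorem isSubcomod_mul {I J : Ideal R} (hI : IsSubcomod (k := k) (A := A) (I.restrictScalars k))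
    (hJ : IsSubcomod (k := k) (A := A) (J.restrictScalars k)) :
    IsSubcomod (k := k) (A := A) ((I * J).restrictScalars k) := by
  intro v hv
  rw [Submodule.restrictScalars_mem] at hv
  refine Submodule.mul_induction_on (C := fun w => Comod.coact (k := k) (A := A) w ∈
    LinearMap.range (((I * J).restrictScalars k).subtype.rTensor A)) hv (fun a ha b hb => ?_)
    fun a b ha hb => by rw [map_add]; exact add_mem ha hb
  obtain ⟨y, hy⟩ := hI a ha
  obtain ⟨z, hz⟩ := hJ b hb
  rw [GLin.IsCoactAlg.coact_mul, ← hy, ← hz]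
  clear hy hz
  induction y with
  | zero => simp
  | add p q hp hq => rw [map_add, add_mul]; exact add_mem hp hq
  | tmul p c =>
    induction z with
    | zero => simp
    | add p' q' hp hq => rw [map_add, mul_add]; exact add_mem hp hq
    | tmul p' c' =>
      refine ⟨(⟨(p : R) * p', Ideal.mul_mem_mul p.2 p'.2⟩ : ((I * J).restrictScalars k)) ⊗ₜ[k] (c * c'), ?_⟩
      rw [LinearMap.rTensor_tmul, LinearMap.rTensor_tmul, LinearMap.rTensor_tmul,
        Algebra.TensorProduct.tmul_mul_tmul]
      rfl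

theorem isSubcomod_kerPoint_pow (hx : GLin.IsFixedPt k A x) : ∀ N : ℕ,
    IsSubcomod (k := k) (A := A) ((RingHom.ker x ^ N).restrictScalars k)
  | 0 => by
    intro v _
    rw [pow_zero, Ideal.one_eq_top, Submodule.restrictScalars_top]
    exact LinearMap.rTensor_surjective A (fun r => ⟨⟨r, trivial⟩, rfl⟩) _
  | N + 1 => by
    rw [pow_succ]
    exact isSubcomod_mul (isSubcomod_kerPoint_pow hx N) (isSubcomod_kerPoint hx)

/-- Lifts of a basis of the cotangent space spanning a subrepresentation. -/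
theorem exists_cotangent_family [IsNoetherianRing R] (hG : IsLinearlyReductive k A)
    (hx : GLin.IsFixedPt k A x) :
    ∃ (n : ℕ) (v : Fin n → R) (t : Fin n → Fin n → A),
      (∀ i, Comod.coact (k := k) (A := A) (v i) = ∑ j, v j ⊗ₜ[k] t j i) ∧
      (∀ j i, CoalgebraStruct.comul (R := k) (t j i) = ∑ l, t j l ⊗ₜ[k] t l i) ∧
      (∀ j i, CoalgebraStruct.counit (R := k) (t j i) = if j = i then (1 : k) else 0) ∧
      (∀ i, x (v i) = 0) ∧
      (∀ r, x r = 0 → ∃ μ : Fin n → k, r - ∑ i, μ i • v i ∈ RingHom.ker x ^ 2) ∧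
      ∀ μ : Fin n → k, ∑ i, μ i • v i ∈ RingHom.ker x ^ 2 → μ = 0 := by
  classical
  obtain ⟨F, hF⟩ := IsNoetherian.noetherian (RingHom.ker x)
  let m₁ : Submodule k R := (RingHom.ker x).restrictScalars k
  let m₂ : Submodule k R := (RingHom.ker x ^ 2).restrictScalars k
  let W' : Submodule (ComodLib.Dual' k A) R :=
    ⨆ a : F, Submodule.span (ComodLib.Dual' k A) {(a : R)}
  let W : Submodule k R := W'.restrictScalars k
  have hW : IsSubcomod (k := k) (A := A) W := ComodLib.isSubcomod_restrictScalars W'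
  haveI : FiniteDimensional k W := by
    haveI : ∀ a : F, FiniteDimensional k
        ↥((Submodule.span (ComodLib.Dual' k A) {(a : R)}).restrictScalars k) :=
      fun a => ComodLib.finite_span_singleton A (a : R)
    have h : W = ⨆ a : F, (Submodule.span (ComodLib.Dual' k A) {(a : R)}).restrictScalars k := by
      simp only [W, W', Submodule.restrictScalars_iSup]
    rw [h]
    infer_instance
  have hWm : W' ≤ ComodLib.toSub m₁ (isSubcomod_kerPoint hx) := iSup_le fun a => by
    refine (Submodule.span_singleton_le_iff_mem _ _).2 ?_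
    show (a : R) ∈ RingHom.ker x
    rw [← hF]
    exact Ideal.subset_span a.2
  -- a stable complement of `W ∩ m²`
  letI := ComodLib.subComod hW
  haveI := ComodLib.isSemisimpleModule_toSub hW (hG W inferInstance)
  have hm₂ : IsSubcomod (k := k) (A := A) m₂ := isSubcomod_kerPoint_pow hx 2
  let W₀ : Submodule (ComodLib.Dual' k A) (ComodLib.toSub W hW) :=
    (ComodLib.toSub m₂ hm₂).comap (ComodLib.toSub W hW).subtype
  obtain ⟨T, hT⟩ := exists_isCompl W₀
  let V : Submodule k R := (T.map (ComodLib.toSub W hW).subtype).restrictScalars k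
  have hV : IsSubcomod (k := k) (A := A) V := ComodLib.isSubcomod_restrictScalars _
  have hVW : V ≤ W := by
    rintro _ ⟨w, -, rfl⟩
    exact w.2
  have hVm : ∀ r ∈ V, x r = 0 := fun r hr => hWm (hVW hr)
  have hdisj : ∀ r ∈ V, r ∈ RingHom.ker x ^ 2 → r = 0 := by
    rintro _ ⟨w, hw, rfl⟩ hr
    have : w ∈ W₀ ⊓ T := ⟨hr, hw⟩
    rw [hT.inf_eq_bot, Submodule.mem_bot] at this
    rw [this]; rfl
  have hWV : ∀ w ∈ W, ∃ r ∈ V, w - r ∈ RingHom.ker x ^ 2 := by
    intro w hw
    have : (⟨w, hw⟩ : ComodLib.toSub W hW) ∈ W₀ ⊔ T := by rw [hT.sup_eq_top]; trivial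
    obtain ⟨a, ha, b, hb, hab⟩ := Submodule.mem_sup.1 this
    refine ⟨(b : R), ⟨b, hb, rfl⟩, ?_⟩
    have h := congrArg Subtype.val hab
    simp only [Submodule.coe_add] at h
    rw [← h, add_sub_cancel_right]
    exact ha
  have hmV : ∀ r, x r = 0 → ∃ v ∈ V, r - v ∈ RingHom.ker x ^ 2 := by
    intro r hr
    have hr' : r ∈ Ideal.span (F : Set R) := by
      rw [Ideal.span, hF]; exact hr
    induction hr' using Submodule.span_induction with
    | mem a ha => exact hWV a (Submodule.mem_iSup_of_mem (⟨a, ha⟩ : F)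
        (Submodule.mem_span_singleton_self a))
    | zero => exact ⟨0, zero_mem _, by simp⟩
    | add a b ha' hb' ha hb =>
      have mem : ∀ y ∈ Ideal.span (F : Set R), x y = 0 := fun y hy => by
        rw [Ideal.span, hF] at hy; exact hy
      obtain ⟨p, hp, hp'⟩ := ha (mem a ha')
      obtain ⟨q, hq, hq'⟩ := hb (mem b hb')
      exact ⟨p + q, add_mem hp hq, by rw [add_sub_add_comm]; exact add_mem hp' hq'⟩
    | smul c a ha' ha =>
      have hxa : x a = 0 := by rw [← RingHom.mem_ker, ← hF]; exact ha'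
      obtain ⟨p, hp, hp'⟩ := ha hxa
      refine ⟨x c • p, Submodule.smul_mem _ _ hp, ?_⟩
      have e : c • a - x c • p = (c - algebraMap k R (x c)) * a + algebraMap k R (x c) * (a - p) := by
        rw [smul_eq_mul, Algebra.smul_def]; ring
      rw [e, pow_two]
      refine add_mem (Ideal.mul_mem_mul ?_ hxa) (Ideal.mul_mem_left _ _ (by rwa [pow_two] at hp'))
      rw [RingHom.mem_ker, map_sub, AlgHom.commutes]
      simp
  haveI : FiniteDimensional k V := Submodule.finiteDimensional_of_le hVW
  letI := ComodLib.subComod hV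
  let b := Module.finBasis k V
  obtain ⟨t, ht, hmul, hone⟩ := Groth.Agent.HopfFF.exists_comodMatrix (A := A) b
  refine ⟨_, fun i => (b i : R), t, fun i => ?_, hmul, hone, fun i => hVm _ (b i).2, fun r hr => ?_,
    fun μ hμ => ?_⟩
  · have h := congrArg (V.subtype.rTensor A) (ht i)
    rw [show V.subtype.rTensor A (Comod.coact (k := k) (A := A) (b i)) =
      Comod.coact (k := k) (A := A) (V.subtype (b i)) from
        LinearMap.congr_fun (ComodLib.exists_coact_sub hV).choose_spec (b i)] at h
    simpa [map_sum] using h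
  · obtain ⟨v, hv, hrv⟩ := hmV r hr
    refine ⟨fun i => b.repr ⟨v, hv⟩ i, ?_⟩
    have h := congrArg V.subtype (b.sum_repr ⟨v, hv⟩)
    simp only [map_sum, map_smul, Submodule.subtype_apply] at h
    rw [h]
    exact hrv
  · have hmem : ∑ i, μ i • (b i : R) ∈ V := sum_mem fun i _ => Submodule.smul_mem _ _ (b i).2
    have h0 : ∑ i, μ i • b i = 0 := Subtype.ext (by simpa using hdisj _ hmem hμ)
    exact funext (Fintype.linearIndependent_iff.1 b.linearIndependent μ h0)

theorem mem_linForms_iff {ι : Type u} [Fintype ι] (f : MvPolynomial ι k) :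
    f ∈ GLin.linForms k ι ↔ ∃ μ : ι → k, f = ∑ i, μ i • X i := by
  rw [show GLin.linForms k ι = homogeneousSubmodule ι k 1 from rfl,
    homogeneousSubmodule_one_eq_span_X, Submodule.mem_span_range_iff_exists_fun]
  exact exists_congr fun _ => eq_comm

/-- Pseudo-reflections at a fixed point are pseudo-reflections of the linearised action. -/
theorem isGenByPseudoRefl_of_at {ι : Type u} [Fintype ι] [Comod k A (MvPolynomial ι k)]
    [GLin.IsCoactAlg k A (MvPolynomial ι k)] (hlin : GLin.IsLinear k A ι) (hx : GLin.IsFixedPt k A x)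
    (φ : MvPolynomial ι k →ₐ[k] R)
    (hφ : ∀ f, Comod.coact (k := k) (A := A) (φ f) =
      φ.toLinearMap.rTensor A (Comod.coact (k := k) (A := A) f))
    (hv : ∀ i, x (φ (X i)) = 0)
    (hspan : ∀ r, x r = 0 → ∃ μ : ι → k, r - ∑ i, μ i • φ (X i) ∈ RingHom.ker x ^ 2)
    (hindep : ∀ μ : ι → k, ∑ i, μ i • φ (X i) ∈ RingHom.ker x ^ 2 → μ = 0)
    (hgen : GLin.IsGenByPseudoReflAt k A R x) : GLin.IsGenByPseudoRefl k A ι := by
  let L := GLin.linForms k ι
  let mk : R →ₗ[k] R ⧸ RingHom.ker x ^ 2 := (Ideal.Quotient.mkₐ k (RingHom.ker x ^ 2)).toLinearMap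
  have hmk : ∀ r, r ∈ RingHom.ker x ^ 2 → mk r = 0 := fun r hr => Ideal.Quotient.eq_zero_iff_mem.2 hr
  let Φ : ↥L →ₗ[k] R ⧸ RingHom.ker x ^ 2 := mk ∘ₗ φ.toLinearMap ∘ₗ L.subtype
  have hinj : Function.Injective Φ := by
    refine (injective_iff_map_eq_zero Φ).2 fun f hf => ?_
    obtain ⟨μ, hμ⟩ := (mem_linForms_iff (f : MvPolynomial ι k)).1 f.2
    have h := hindep μ (Ideal.Quotient.eq_zero_iff_mem.1 (by
      refine Eq.trans (congrArg (Ideal.Quotient.mk _) ?_) hf
      show _ = φ (f : MvPolynomial ι k)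
      simp only [hμ, map_sum, map_smul]))
    exact Subtype.ext (by simp [hμ, h])
  have hLm : ∀ f ∈ L, x (φ f) = 0 := fun f hf => by
    obtain ⟨μ, rfl⟩ := (mem_linForms_iff f).1 hf
    simp [map_sum, hv]
  have hlift : ∀ r, x r = 0 → ∃ f ∈ L, r - φ f ∈ RingHom.ker x ^ 2 := fun r hr => by
    obtain ⟨μ, hμ⟩ := hspan r hr
    exact ⟨∑ i, μ i • X i, (mem_linForms_iff _).2 ⟨μ, rfl⟩, by simpa [map_sum] using hμ⟩
  have hcot : GLin.cotSpace k R x = Submodule.map Φ ⊤ := by
    refine le_antisymm ?_ ?_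
    · rintro _ ⟨r, hr, rfl⟩
      obtain ⟨f, hf, hrf⟩ := hlift r hr
      refine ⟨⟨f, hf⟩, trivial, ?_⟩
      exact (Ideal.Quotient.eq.2 hrf).symm
    · rintro _ ⟨f, -, rfl⟩
      exact ⟨φ f, hLm _ f.2, rfl⟩
  obtain ⟨P₀, hP₀⟩ := LinearMap.exists_leftInverse_of_injective Φ (LinearMap.ker_eq_bot.2 hinj)
  have hcoL : ∀ f ∈ L, ∃ a : ι → A, Comod.coact (k := k) (A := A) f = ∑ j, X j ⊗ₜ[k] a j := by
    intro f hf
    obtain ⟨μ, rfl⟩ := (mem_linForms_iff f).1 hf
    choose m hm using hlin
    refine ⟨fun j => ∑ i, μ i • m i j, ?_⟩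
    simp only [map_sum, map_smul, hm, Finset.smul_sum, TensorProduct.tmul_sum, TensorProduct.tmul_smul]
    exact Finset.sum_comm
  have hfix : ∀ I : Ideal A, GLin.cotFixed k A R x I =
      Submodule.map Φ ((GLin.quotInvariants k A (MvPolynomial ι k) I).comap L.subtype) := by
    intro I
    let q : A →ₗ[k] A ⧸ I := (Ideal.Quotient.mkₐ k I).toLinearMap
    have key : ∀ (f : MvPolynomial ι k), TensorProduct.map mk q (Comod.coact (k := k) (A := A) (φ f)) =
        TensorProduct.map (mk ∘ₗ φ.toLinearMap) q (Comod.coact (k := k) (A := A) f) := fun f => by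
      rw [hφ, LinearMap.map_rTensor]
    have hsq : ∀ r ∈ RingHom.ker x ^ 2,
        TensorProduct.map mk q (Comod.coact (k := k) (A := A) r) = 0 := by
      intro r hr
      obtain ⟨z, hz⟩ := isSubcomod_kerPoint_pow hx 2 r hr
      rw [← hz, LinearMap.map_rTensor]
      have : mk ∘ₗ ((RingHom.ker x ^ 2).restrictScalars k).subtype = 0 :=
        LinearMap.ext fun y => hmk _ y.2
      rw [this, TensorProduct.map_zero_left, LinearMap.zero_apply]
    refine le_antisymm ?_ ?_
    · rintro _ ⟨r, ⟨hr, hr'⟩, rfl⟩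
      obtain ⟨f, hf, hrf⟩ := hlift r hr
      refine ⟨⟨f, hf⟩, ?_, (Ideal.Quotient.eq.2 hrf).symm⟩
      have hr'' : TensorProduct.map mk q (Comod.coact (k := k) (A := A) r) = mk r ⊗ₜ[k] (1 : A ⧸ I) := hr'
      have e1 : mk r = mk (φ f) := Ideal.Quotient.eq.2 hrf
      have e2 := hsq _ hrf
      rw [map_sub, map_sub, sub_eq_zero] at e2
      rw [e2, key, e1] at hr''
      obtain ⟨a, ha⟩ := hcoL f hf
      have hP : ∀ g (hg : g ∈ L), P₀ (mk (φ g)) = ⟨g, hg⟩ := fun g hg => LinearMap.congr_fun hP₀ ⟨g, hg⟩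
      have h := congrArg (LinearMap.rTensor (A ⧸ I) (L.subtype ∘ₗ P₀)) hr''
      show LinearMap.lTensor _ q (Comod.coact (k := k) (A := A) f) = f ⊗ₜ[k] (1 : A ⧸ I)
      rw [ha, map_sum] at h ⊢
      simp only [map_sum, TensorProduct.map_tmul, LinearMap.rTensor_tmul, LinearMap.comp_apply,
        AlgHom.toLinearMap_apply, Submodule.subtype_apply, LinearMap.lTensor_tmul, hP _ hf,
        hP _ ((isHomogeneous_X k _) : (X _ : MvPolynomial ι k) ∈ L)] at h ⊢
      exact h
    · rintro _ ⟨f, hf, rfl⟩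
      refine ⟨φ f, ⟨hLm _ f.2, ?_⟩, rfl⟩
      show TensorProduct.map mk q (Comod.coact (k := k) (A := A) (φ f)) = mk (φ f) ⊗ₜ[k] (1 : A ⧸ I)
      rw [key]
      have h := congrArg (LinearMap.rTensor (A ⧸ I) (mk ∘ₗ φ.toLinearMap))
        (show LinearMap.lTensor _ q (Comod.coact (k := k) (A := A) (f : MvPolynomial ι k)) =
          (f : MvPolynomial ι k) ⊗ₜ[k] (1 : A ⧸ I) from hf)
      rw [← LinearMap.comp_apply, LinearMap.rTensor_comp_lTensor] at h
      simpa using h
  have hps : ∀ I : Ideal A, GLin.IsPseudoReflAt k A R x I → GLin.IsPseudoRefl k A ι I := by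
    rintro I ⟨hI, hd⟩
    refine ⟨hI, ?_⟩
    rw [hfix, hcot, ← LinearEquiv.finrank_eq (Submodule.equivMapOfInjective Φ hinj _),
      ← LinearEquiv.finrank_eq (Submodule.equivMapOfInjective Φ hinj _), finrank_top] at hd
    rw [← Submodule.map_comap_subtype, Submodule.finrank_map_subtype_eq]
    exact hd
  refine le_bot_iff.1 (le_of_le_of_eq ?_ hgen)
  exact sSup_le fun J hJ => le_sSup ⟨hJ.1, fun I hI => hJ.2 I (hps I hI)⟩

end CSTLib

end
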