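import Mathlib
import Groth.Agent.CSTLib.Local
import Groth.Agent.CohenLib.RegularField
import Groth.Agent.CommAlgDim.Integral

/-! # Regularity of the invariants at a fixed point generated by pseudo-reflections -/

set_option autoImplicit false
set_option maxHeartbeats 1000000
set_option synthInstance.maxHeartbeats 400000

noncomputable section

open TensorProduct HopfRep MvPolynomial
open scoped ComodLib

namespace CSTLib

universe u

variable {k : Type u} [Field k] {A : Type u} [CommRing A] [HopfAlgebra k A]
  {R : Type u} [CommRing R] [Algebra k R]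
  {x : R →ₐ[k] k}

/-- Elements of the maximal ideal lifting to the polynomial ring modulo every power. -/
theorem exists_lift_pow {ι : Type u} [Fintype ι] (φ : MvPolynomial ι k →ₐ[k] R)
    (hspan : ∀ r, x r = 0 → ∃ μ : ι → k, r - ∑ i, μ i • φ (X i) ∈ RingHom.ker x ^ 2) :
    ∀ (N : ℕ) (r : R), ∃ f, r - φ f ∈ RingHom.ker x ^ N := by
  have hstep : ∀ (N : ℕ) (r : R), r ∈ RingHom.ker x ^ N →
      ∃ f, r - φ f ∈ RingHom.ker x ^ (N + 1) := by
    intro N
    induction N with
    | zero =>
      intro r _
      refine ⟨C (x r), ?_⟩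
      rw [zero_add, pow_one, RingHom.mem_ker, map_sub,
        show φ (C (x r)) = algebraMap k R (x r) from φ.commutes _, AlgHom.commutes]
      simp
    | succ N ih =>
      intro r hr
      rw [pow_succ] at hr
      refine Submodule.mul_induction_on hr (fun a ha b hb => ?_) fun a b ha hb => ?_
      · obtain ⟨f, hf⟩ := ih a ha
        obtain ⟨μ, hμ⟩ := hspan b hb
        refine ⟨f * ∑ i, μ i • X i, ?_⟩
        have hg : b - φ (∑ i, μ i • X i) ∈ RingHom.ker x ^ 2 := by simpa [map_sum] using hμ
        have hfN : φ f ∈ RingHom.ker x ^ N := by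
          have := sub_mem ha (Ideal.pow_le_pow_right (Nat.le_succ N) hf)
          rwa [sub_sub_cancel] at this
        rw [map_mul, show a * b - φ f * φ (∑ i, μ i • X i) =
          (a - φ f) * b + φ f * (b - φ (∑ i, μ i • X i)) by ring]
        refine add_mem ?_ ?_
        · rw [pow_succ _ (N + 1)]
          exact Ideal.mul_mem_mul hf hb
        · rw [show N + 1 + 1 = N + 2 from rfl, pow_add]
          exact Ideal.mul_mem_mul hfN hg
      · obtain ⟨f, hf⟩ := ha
        obtain ⟨g, hg⟩ := hb
        exact ⟨f + g, by rw [map_add, add_sub_add_comm]; exact add_mem hf hg⟩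
  intro N
  induction N with
  | zero => exact fun r => ⟨0, by simp⟩
  | succ N ih =>
    intro r
    obtain ⟨f, hf⟩ := ih r
    obtain ⟨g, hg⟩ := hstep N _ hf
    exact ⟨f + g, by rw [map_add, ← sub_sub]; exact hg⟩

/-- The embedding dimension at a rational point bounds an independent family in the cotangent space. -/
theorem card_le_spanFinrank [IsNoetherianRing R] [(RingHom.ker x).IsPrime] {n : ℕ} (v : Fin n → R)
    (hv : ∀ i, x (v i) = 0)
    (hindep : ∀ μ : Fin n → k, ∑ i, μ i • v i ∈ RingHom.ker x ^ 2 → μ = 0) :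
    n ≤ (IsLocalRing.maximalIdeal (Localization.AtPrime (RingHom.ker x))).spanFinrank := by
  classical
  let L := Localization.AtPrime (RingHom.ker x)
  let I : Ideal L := IsLocalRing.maximalIdeal L
  have hI : I.FG := IsNoetherian.noetherian I
  obtain ⟨s, hscard, hs⟩ := Submodule.FG.exists_span_set_encard_eq_spanFinrank hI
  have hsfin : s.Finite := Set.finite_of_encard_eq_coe hscard
  haveI := hsfin.fintype
  have hcard : Fintype.card s = I.spanFinrank := by
    rw [← Set.toFinset_card]
    have := hsfin.encard_eq_coe_toFinset_card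
    rw [hscard, Set.Finite.toFinset_eq_toFinset] at this
    exact_mod_cast this.symm
  have hnum : ∀ z : s, ∃ (g : R) (d : (RingHom.ker x).primeCompl), x g = 0 ∧
      (z : L) = IsLocalization.mk' L g d := by
    intro z
    obtain ⟨g, d, h⟩ := IsLocalization.exists_mk'_eq (RingHom.ker x).primeCompl (z : L)
    refine ⟨g, d, ?_, h.symm⟩
    have hz : (z : L) ∈ I := hs ▸ Submodule.subset_span z.2
    rw [← h, IsLocalization.AtPrime.mk'_mem_maximal_iff L (RingHom.ker x)] at hz
    exact hz
  choose g d hg hgd using hnum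
  let mk : R →ₗ[k] R ⧸ RingHom.ker x ^ 2 := (Ideal.Quotient.mkₐ k (RingHom.ker x ^ 2)).toLinearMap
  have hIJ : I ≤ (Ideal.span (Set.range g)).map (algebraMap R L) := by
    rw [← hs]
    refine Submodule.span_le.2 fun z hz => ?_
    rw [show z = IsLocalization.mk' L (g ⟨z, hz⟩) (d ⟨z, hz⟩) from hgd ⟨z, hz⟩]
    exact (IsLocalization.mk'_mem_map_algebraMap_iff (RingHom.ker x).primeCompl L _ _ _).2
      ⟨1, one_mem _, by rw [one_mul]; exact Ideal.subset_span ⟨_, rfl⟩⟩
  let U : Submodule k (R ⧸ RingHom.ker x ^ 2) := Submodule.span k (Set.range fun z => mk (g z))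
  have hspanU : ∀ r, x r = 0 → mk r ∈ U := by
    intro r hr
    have hmem : algebraMap R L r ∈ (Ideal.span (Set.range g)).map (algebraMap R L) :=
      hIJ ((IsLocalization.AtPrime.to_map_mem_maximal_iff L (RingHom.ker x) r).2 hr)
    obtain ⟨t, ht, hts⟩ := (IsLocalization.algebraMap_mem_map_algebraMap_iff
      (RingHom.ker x).primeCompl L _ _).1 hmem
    obtain ⟨c, hc⟩ := Ideal.mem_span_range_iff_exists_fun.1 hts
    have hxt : x t ≠ 0 := ht
    have e : mk r = (x t)⁻¹ • ∑ z, x (c z) • mk (g z) := by
      rw [eq_inv_smul_iff₀ hxt, ← map_smul, ← sub_eq_zero]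
      simp only [← map_smul, ← map_sum, ← map_sub]
      refine Ideal.Quotient.eq_zero_iff_mem.2 ?_
      have e2 : x t • r - ∑ z, x (c z) • g z = (algebraMap k R (x t) - t) * r +
          ∑ z, (c z - algebraMap k R (x (c z))) * g z := by
        simp only [sub_mul, Finset.sum_sub_distrib, hc, Algebra.smul_def]
        ring
      rw [e2, pow_two]
      refine add_mem (Ideal.mul_mem_mul ?_ hr) (sum_mem fun z _ => Ideal.mul_mem_mul ?_ (hg z))
      · simp [RingHom.mem_ker]
      · simp [RingHom.mem_ker]
    rw [e]
    exact Submodule.smul_mem _ _ (sum_mem fun z _ => Submodule.smul_mem _ _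
      (Submodule.subset_span ⟨z, rfl⟩))
  have hli : LinearIndependent k (fun i => mk (v i)) := by
    refine Fintype.linearIndependent_iff.2 fun μ hμ => ?_
    simp only [← map_smul, ← map_sum] at hμ
    exact congrFun (hindep μ (Ideal.Quotient.eq_zero_iff_mem.1 hμ))
  haveI : FiniteDimensional k U := FiniteDimensional.span_of_finite k (Set.finite_range _)
  have h1 : n ≤ Module.finrank k U := by
    refine le_trans ?_ (Submodule.finrank_mono (Submodule.span_le.2
      (Set.range_subset_iff.2 fun i => hspanU _ (hv i))))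
    rw [finrank_span_eq_card hli, Fintype.card_fin]
  exact h1.trans ((finrank_range_le_card _).trans hcard.le)

variable [Module.Finite k A] [Comod k A R] [GLin.IsCoactAlg k A R]

/-- The invariants are regular at a fixed point at which the group is generated by
pseudo-reflections. -/
theorem isRegularLocalRing_invariants (hG : IsLinearlyReductive k A)
    (hsub : ∀ (I : Ideal A) [I.IsHopfIdeal k], IsLinearlyReductive k (A ⧸ I))
    [Algebra.FiniteType k R] [Algebra.Smooth k R]
    (hx : GLin.IsFixedPt k A x) (hgen : GLin.IsGenByPseudoReflAt k A R x)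
    [(RingHom.ker (x.comp (GLin.invariants k A R).val)).IsPrime] :
    IsRegularLocalRing
      (Localization.AtPrime (RingHom.ker (x.comp (GLin.invariants k A R).val))) := by
  classical
  haveI : IsNoetherianRing R := Algebra.FiniteType.isNoetherianRing k R
  obtain ⟨α, hα, h1⟩ := ComodLib.exists_invariant_of_isLinearlyReductive hG
  obtain ⟨n, v, t, ht, hmul, hone, hv, hspan, hindep⟩ := exists_cotangent_family hG hx
  let ι := ULift.{u} (Fin n)
  let t' : ι → ι → A := fun j i => t j.down i.down
  have hmul' : ∀ j i, CoalgebraStruct.comul (R := k) (t' j i) = ∑ l, t' j l ⊗ₜ[k] t' l i :=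
    fun j i => (hmul _ _).trans (Equiv.ulift.sum_comp fun l => t j.down l ⊗ₜ[k] t l i.down).symm
  have hone' : ∀ j i, CoalgebraStruct.counit (R := k) (t' j i) = if j = i then (1 : k) else 0 :=
    fun j i => (hone _ _).trans (if_congr ULift.down_inj rfl rfl)
  letI := linComod (k := k) t' hmul' hone'
  haveI := linComod_isCoactAlg (k := k) t' hmul' hone'
  have hlin := linComod_isLinear (k := k) t' hmul' hone'
  let S := MvPolynomial ι k
  let φ : S →ₐ[k] R := aeval fun i => v i.down
  have hφ : ∀ f, Comod.coact (k := k) (A := A) (φ f) =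
      φ.toLinearMap.rTensor A (Comod.coact (k := k) (A := A) f) := by
    have e : (GLin.coactAlgHom k A R).comp φ =
        (Algebra.TensorProduct.map φ (AlgHom.id k A)).comp (linCoact (k := k) t') := by
      refine MvPolynomial.algHom_ext fun i => ?_
      have hX := linCoact_X (k := k) t' i
      rw [AlgHom.comp_apply, AlgHom.comp_apply, hX, map_sum,
        show φ (X i) = v i.down from aeval_X _ _, GLin.coactAlgHom_apply, ht]
      refine (Fintype.sum_equiv Equiv.ulift _ _ fun j => ?_).symm
      rw [Algebra.TensorProduct.map_tmul, AlgHom.id_apply, show φ (X j) = v j.down from aeval_X _ _]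
      rfl
    intro f
    refine (AlgHom.congr_fun e f).trans ?_
    show Algebra.TensorProduct.map φ (AlgHom.id k A) (linCoact (k := k) t' f) =
      φ.toLinearMap.rTensor A (linCoact (k := k) t' f)
    generalize linCoact (k := k) t' f = z
    induction z with
    | zero => simp
    | add a b ha hb => simp only [map_add, ha, hb]
    | tmul a b => simp
  have hφX : ∀ i : ι, φ (X i) = v i.down := fun i => aeval_X _ _
  have hspan' : ∀ r, x r = 0 → ∃ μ : ι → k, r - ∑ i, μ i • φ (X i) ∈ RingHom.ker x ^ 2 := by
    intro r hr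
    obtain ⟨μ, hμ⟩ := hspan r hr
    refine ⟨fun i => μ i.down, ?_⟩
    simp only [hφX]
    rw [Fintype.sum_equiv Equiv.ulift (fun i : ι => μ i.down • v i.down) (fun i => μ i • v i)
      fun _ => rfl]
    exact hμ
  have hindep' : ∀ μ : ι → k, ∑ i, μ i • φ (X i) ∈ RingHom.ker x ^ 2 → μ = 0 := by
    intro μ hμ
    have h := hindep (fun i => μ ⟨i⟩) (by
      simp only [hφX] at hμ
      rw [← Fintype.sum_equiv Equiv.ulift (fun i : ι => μ i • v i.down) (fun i => μ ⟨i⟩ • v i)
        fun _ => rfl]
      exact hμ)
    exact funext fun i => congrFun h i.down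
  have hgenS := isGenByPseudoRefl_of_at hlin hx φ hφ (fun i => by rw [hφX]; exact hv _) hspan'
    hindep' hgen
  obtain ⟨m, e, he⟩ := exists_algEquiv_generators hlin hG hsub hgenS
  -- as many generators as dimensions
  have hmn : m = n := by
    haveI : Algebra.IsIntegral ↥(GLin.invariants k A S) S := isIntegral_invariants
    have h := CommAlgDim.ringKrullDim_eq_of_integral ↥(GLin.invariants k A S) S Subtype.val_injective
    rw [← ringKrullDim_eq_of_ringEquiv e.toRingEquiv] at h
    have h2 : (n : WithBot ℕ∞) = m := by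
      simpa [S, ι, MvPolynomial.ringKrullDim_of_isNoetherianRing, ringKrullDim_eq_zero_of_field] using h
    exact_mod_cast h2.symm
  subst hmn
  -- their images in `R`
  let C₀ := GLin.invariants k A R
  let u : Fin m → S := fun i => (e (X i) : S)
  have hφinv : ∀ f ∈ GLin.invariants k A S, φ f ∈ C₀ := by
    intro f hf
    show Comod.coact (k := k) (A := A) (φ f) = φ f ⊗ₜ[k] (1 : A)
    rw [hφ, show Comod.coact (k := k) (A := A) f = f ⊗ₜ[k] (1 : A) from hf]
    rfl
  have hxφ : ∀ f : S, x (φ f) = coeff 0 f := by
    intro f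
    show x.toRingHom.comp φ.toRingHom f = constantCoeff f
    refine RingHom.congr_fun (MvPolynomial.ringHom_ext (fun r => ?_) fun i => ?_) f
    · show x (φ (C r)) = constantCoeff (C r)
      rw [constantCoeff_C, ← MvPolynomial.algebraMap_eq, AlgHom.commutes, AlgHom.commutes]
      rfl
    · show x (φ (X i)) = constantCoeff (X i)
      rw [hφX, hv, constantCoeff_X]
  let y : Fin m → C₀ := fun i => ⟨φ (u i), hφinv _ (he i).1⟩
  let mC : Ideal C₀ := RingHom.ker (x.comp C₀.val)
  have hu0 : ∀ i, coeff 0 (u i) = 0 := fun i => by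
    obtain ⟨-, d, hd, hud⟩ := he i
    exact hud.coeff_eq_zero (by simpa using hd.ne)
  have hy : ∀ i, y i ∈ mC := fun i => (hxφ (u i)).trans (hu0 i)
  let 𝔞 : Ideal R := Ideal.span (Set.range fun i => (y i : R))
  have happrox : ∀ c ∈ mC, ∀ N : ℕ, (c : R) ∈ 𝔞 ⊔ RingHom.ker x ^ N := by
    intro c hc N
    rcases Nat.eq_zero_or_pos N with rfl | hN
    · simp
    obtain ⟨f, hf⟩ := exists_lift_pow φ hspan' N (c : R)
    have h := GLinFinLib.reynolds_mem_of_isSubcomod α (isSubcomod_kerPoint_pow hx N) hf
    rw [map_sub, ComodLib.reynolds_fixed h1 c.2,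
      show ComodLib.reynolds R α (φ f) = φ (ComodLib.reynolds S α f) from
        (ComodLib.reynolds_natural α (φ := φ.toLinearMap) (LinearMap.ext fun z => hφ z) f).symm,
      Submodule.restrictScalars_mem] at h
    obtain ⟨p, hp⟩ := e.surjective ⟨_, ComodLib.reynolds_mem (V := S) hα f⟩
    have hp' : φ (ComodLib.reynolds S α f) - algebraMap k R (constantCoeff p) ∈ 𝔞 := by
      let ψ : MvPolynomial (Fin m) k →ₐ[k] R :=
        (φ.comp (GLin.invariants k A S).val).comp e.toAlgHom
      have key : ∀ p, ψ p - algebraMap k R (constantCoeff p) ∈ 𝔞 := by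
        intro p
        induction p using MvPolynomial.induction_on with
        | C a =>
          rw [constantCoeff_C, ← MvPolynomial.algebraMap_eq, ψ.commutes, sub_self]
          exact zero_mem _
        | add p q hp hq =>
          rw [map_add, map_add, map_add, add_sub_add_comm]
          exact add_mem hp hq
        | mul_X p i _ =>
          rw [map_mul, map_mul, constantCoeff_X, mul_zero, map_zero, sub_zero]
          exact Ideal.mul_mem_left _ _ (Ideal.subset_span ⟨i, rfl⟩)
      have := key p
      rwa [show ψ p = φ (ComodLib.reynolds S α f) from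
        congrArg (fun z : ↥(GLin.invariants k A S) => φ (z : S)) hp] at this
    have ha : constantCoeff p = 0 := by
      have e1 : x ((c : R) - φ (ComodLib.reynolds S α f)) = 0 :=
        Ideal.pow_le_self (by omega) h
      have e2 : x (φ (ComodLib.reynolds S α f) - algebraMap k R (constantCoeff p)) = 0 := by
        have : 𝔞 ≤ RingHom.ker x := Ideal.span_le.2 (Set.range_subset_iff.2 hy)
        exact this hp'
      rw [map_sub, show x (c : R) = 0 from hc, zero_sub, neg_eq_zero] at e1
      rw [map_sub, e1, AlgHom.commutes, zero_sub, neg_eq_zero] at e2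
      simpa using e2
    rw [ha, map_zero, sub_zero] at hp'
    have := Submodule.add_mem_sup hp' h
    rwa [add_sub_cancel] at this
  -- Krull's intersection theorem
  haveI : (RingHom.ker x).IsPrime := RingHom.ker_isPrime _
  let L := Localization.AtPrime (RingHom.ker x)
  have hKrull : ∀ c ∈ mC, ∃ s, x s ≠ 0 ∧ s * (c : R) ∈ 𝔞 := by
    intro c hc
    let 𝔞L : Submodule L L := 𝔞.map (algebraMap R L)
    have hmem : algebraMap R L c ∈ 𝔞L := by
      rw [← Submodule.Quotient.mk_eq_zero, ← Submodule.mem_bot L,
        ← Ideal.iInf_pow_smul_eq_bot_of_isLocalRing (M := L ⧸ 𝔞L) (IsLocalRing.maximalIdeal L)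
          (IsLocalRing.maximalIdeal.isMaximal L).ne_top, Submodule.mem_iInf]
      intro N
      obtain ⟨a, ha, b, hb, hab⟩ := Submodule.mem_sup.1 (happrox c hc N)
      have hb' : algebraMap R L b ∈ IsLocalRing.maximalIdeal L ^ N := by
        rw [← IsLocalization.AtPrime.map_eq_maximalIdeal (RingHom.ker x) L, ← Ideal.map_pow]
        exact Ideal.mem_map_of_mem _ hb
      have e1 : (Submodule.Quotient.mk (algebraMap R L c) : L ⧸ 𝔞L) =
          algebraMap R L b • Submodule.Quotient.mk (1 : L) := by
        rw [← Submodule.Quotient.mk_smul, smul_eq_mul, mul_one, Submodule.Quotient.eq, ← hab, map_add,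
          add_sub_cancel_right]
        exact Ideal.mem_map_of_mem _ ha
      rw [e1]
      exact Submodule.smul_mem_smul hb' trivial
    obtain ⟨s, hs, hsc⟩ := (IsLocalization.algebraMap_mem_map_algebraMap_iff
      (RingHom.ker x).primeCompl L 𝔞 (c : R)).1 hmem
    exact ⟨s, hs, hsc⟩
  haveI : IsNoetherianRing C₀ := GLinFinLib.isNoetherianRing_invariants hG
  let LC := Localization.AtPrime mC
  haveI : IsNoetherianRing LC := IsLocalization.isNoetherianRing mC.primeCompl LC inferInstance
  have hmax : IsLocalRing.maximalIdeal LC = Ideal.span (Set.range fun i => algebraMap C₀ LC (y i)) := by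
    rw [← IsLocalization.AtPrime.map_eq_maximalIdeal mC LC]
    refine le_antisymm (Ideal.map_le_iff_le_comap.2 fun c hc => ?_)
      (Ideal.span_le.2 (Set.range_subset_iff.2 fun i => Ideal.mem_map_of_mem _ (hy i)))
    obtain ⟨s, hs, hsc⟩ := hKrull c hc
    obtain ⟨r, hr⟩ := Ideal.mem_span_range_iff_exists_fun.1 hsc
    let Rs : C₀ := ⟨ComodLib.reynolds R α s, ComodLib.reynolds_mem hα s⟩
    have hRs : Rs ∈ mC.primeCompl := fun h => hs ((apply_reynolds hx h1 s).symm.trans h)
    have hrel : Rs * c = ∑ i, (⟨ComodLib.reynolds R α (r i), ComodLib.reynolds_mem hα _⟩ : C₀) * y i := by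
      refine Subtype.ext ?_
      rw [Subalgebra.coe_mul, AddSubmonoidClass.coe_finsetSum]
      show ComodLib.reynolds R α s * (c : R) = _
      rw [← reynolds_mul_fixed α s c.2, ← hr, map_sum]
      exact Finset.sum_congr rfl fun i _ => reynolds_mul_fixed α (r i) (y i).2
    have h2 : algebraMap C₀ LC Rs * algebraMap C₀ LC c ∈
        Ideal.span (Set.range fun i => algebraMap C₀ LC (y i)) := by
      rw [← map_mul, hrel, map_sum]
      refine sum_mem fun i _ => ?_
      rw [map_mul]
      exact Ideal.mul_mem_left _ _ (Ideal.subset_span ⟨i, rfl⟩)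
    exact (Ideal.unit_mul_mem_iff_mem _ (IsLocalization.map_units LC ⟨Rs, hRs⟩)).1 h2
  refine IsRegularLocalRing.of_spanFinrank_maximalIdeal_le LC ?_
  have hle : (IsLocalRing.maximalIdeal LC).spanFinrank ≤ m := by
    rw [hmax]
    refine (Submodule.spanFinrank_span_le_ncard_of_finite (Set.finite_range _)).trans ?_
    rw [← Set.image_univ]
    exact (Set.ncard_image_le Set.finite_univ).trans (by simp)
  refine (Nat.cast_le.2 (hle.trans (card_le_spanFinrank v hv hindep))).trans ?_
  haveI : IsRegularRing R := CohenLib.isRegularRing_of_formallySmooth (k := k)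
  have hregL : IsRegularLocalRing L := IsRegularRing.isRegularLocalRing_localization (RingHom.ker x)
  rw [hregL.spanFinrank_maximalIdeal,
    IsLocalization.AtPrime.ringKrullDim_eq_height (RingHom.ker x) L,
    IsLocalization.AtPrime.ringKrullDim_eq_height mC LC]
  haveI : Algebra.IsIntegral C₀ R := isIntegral_invariants
  refine WithBot.coe_le_coe.2 ?_
  rw [show (RingHom.ker x).height = Order.height (⟨RingHom.ker x, inferInstance⟩ : PrimeSpectrum R) from
      PrimeSpectrum.height_eq_orderHeight ⟨RingHom.ker x, inferInstance⟩,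
    show mC.height = Order.height (⟨mC, inferInstance⟩ : PrimeSpectrum C₀) from
      PrimeSpectrum.height_eq_orderHeight ⟨mC, inferInstance⟩]
  exact Order.height_le_height_apply_of_strictMono (PrimeSpectrum.comap (algebraMap C₀ R))
    (fun P Q hPQ => Ideal.IsIntegral.comap_lt_comap (R := C₀) hPQ) ⟨RingHom.ker x, inferInstance⟩

end CSTLib

end
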